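import Mathlib
import Cfsg.Agent.H952.F4.Scott_m3
import Cfsg.Agent.FastGrp
import Cfsg.Agent.Prune
set_option linter.all false

section
prune_inst 0x7f00000000000000000000000000000000000000000000000000000000000000000000000000000000000000000000000000000000000000000000000000000000000000000000000000000000000000003fffffffffffffffffffffffffffbeffbdffffffff

-- part: R2/PX/A/Grp
section
set_option linter.all false
open scoped Cfsg.Agent.FastGrp

-- part: R2/PX/A/Lin
section
/-!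
# Pattern X of S5771, Part A: dimensions of fixed spaces (helper7)

Exact formulas for the dimensions of fixed spaces for the groups `2²`, `S₃`, `3²`, `A₄` acting on a stable subspace `U`
(characteristic not 2, 3):

* `four_group` : `dim U^a + dim U^b + dim U^{ab} = dim U + 2 dim U^{a,b}`;
* `sym3` : `2 dim U^t + dim U^s = 2 dim U^{s,t} + dim U`;
* `nine` : `dim U^a + dim U^b + dim U^{ab} + dim U^{abb} = dim U + 3 dim U^{a,b}`;
* `alt4` : `3 dim U^{s,a,b} + dim U = 3 dim U^s + dim U^{a,b}`.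
-/

set_option autoImplicit false

namespace Cfsg.Agent.R2.PX.A

open Module

universe u v
variable {K : Type u} [Field K] {M : Type v} [AddCommGroup M] [Module K M]

/-- the fixed space -/
def fx (A : Module.End K M) : Submodule K M := Module.End.eigenspace A 1

theorem mem_fx {A : Module.End K M} {v : M} : v ∈ fx A ↔ A v = v := by
  rw [fx, Module.End.mem_eigenspace_iff, one_smul]

/-- the eigenspace of `-1` -/
def ng (A : Module.End K M) : Submodule K M := Module.End.eigenspace A (-1)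

theorem mem_ng {A : Module.End K M} {v : M} : v ∈ ng A ↔ A v = -v := by
  rw [ng, Module.End.mem_eigenspace_iff, neg_smul, one_smul]

/-- the kernel of `1 + A + A²` -/
def kr (A : Module.End K M) : Submodule K M := LinearMap.ker (1 + A + A * A)

theorem mem_kr {A : Module.End K M} {v : M} : v ∈ kr A ↔ v + A v + A (A v) = 0 := by
  rw [kr, LinearMap.mem_ker]
  rfl

variable [FiniteDimensional K M]

/-- **idempotents** -/
theorem idem (U : Submodule K M) (e : Module.End K M) (he : ∀ u ∈ U, e (e u) = e u) (hU : ∀ u ∈ U, e u ∈ U) :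
    finrank K ↥U = finrank K ↥(U ⊓ fx e) + finrank K ↥(U ⊓ LinearMap.ker e) := by
  have h1 := Submodule.finrank_sup_add_finrank_inf_eq (U ⊓ fx e) (U ⊓ LinearMap.ker e)
  have h2 : (U ⊓ fx e) ⊔ (U ⊓ LinearMap.ker e) = U := by
    apply le_antisymm
    · exact sup_le inf_le_left inf_le_left
    · intro u hu
      rw [Submodule.mem_sup]
      refine ⟨e u, ⟨hU u hu, mem_fx.2 (he u hu)⟩, u - e u, ⟨U.sub_mem hu (hU u hu), ?_⟩, by abel⟩
      rw [SetLike.mem_coe, LinearMap.mem_ker, map_sub, he u hu, sub_self]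
  have h3 : (U ⊓ fx e) ⊓ (U ⊓ LinearMap.ker e) = ⊥ := by
    rw [eq_bot_iff]
    rintro u ⟨⟨_, h4⟩, ⟨_, h5⟩⟩
    rw [SetLike.mem_coe, mem_fx] at h4
    rw [SetLike.mem_coe, LinearMap.mem_ker] at h5
    rw [Submodule.mem_bot, ← h4, h5]
  rw [h2, h3, finrank_bot, add_zero] at h1
  exact h1

/-- injective maps between subspaces -/
theorem finrank_le_of (U W : Submodule K M) (f : Module.End K M) (h : ∀ u ∈ U, f u ∈ W)
    (hinj : ∀ u ∈ U, f u = 0 → u = 0) : finrank K ↥U ≤ finrank K ↥W := by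
  refine LinearMap.finrank_le_finrank_of_injective (f := f.restrict h) ?_
  rw [← LinearMap.ker_eq_bot, eq_bot_iff]
  rintro ⟨u, hu⟩ h1
  rw [LinearMap.mem_ker] at h1
  rw [Submodule.mem_bot]
  exact Subtype.ext (hinj u hu (congrArg Subtype.val h1))

section two
variable (h2 : (2 : K) ≠ 0)
include h2

omit [FiniteDimensional K M] in
theorem half_half (v : M) : (2 : K)⁻¹ • (v + v) = v := by
  rw [← two_smul K, smul_smul, inv_mul_cancel₀ h2, one_smul]

omit [FiniteDimensional K M] in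
theorem eq_zero_of_two {v : M} (h : v + v = 0) : v = 0 := by
  rw [← half_half h2 v, h, smul_zero]

theorem inv2 (U : Submodule K M) {A : Module.End K M} (hA : ∀ v, A (A v) = v) (hU : ∀ u ∈ U, A u ∈ U) :
    finrank K ↥U = finrank K ↥(U ⊓ fx A) + finrank K ↥(U ⊓ ng A) := by
  have h1 := idem U ((2 : K)⁻¹ • (1 + A)) (fun u _ => by
    show (2 : K)⁻¹ • ((2 : K)⁻¹ • (u + A u) + A ((2 : K)⁻¹ • (u + A u))) = (2 : K)⁻¹ • (u + A u)
    rw [map_smul, map_add, hA, ← smul_add, add_comm (A u) u, half_half h2]) (fun u hu =>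
      U.smul_mem _ (U.add_mem hu (hU u hu)))
  have h3 : fx ((2 : K)⁻¹ • (1 + A)) = fx A := by
    ext u
    rw [mem_fx, mem_fx]
    show (2 : K)⁻¹ • (u + A u) = u ↔ _
    constructor
    · intro h
      have h4 : u + A u = u + u := by
        have h5 : (2 : K) • ((2 : K)⁻¹ • (u + A u)) = (2 : K) • u := by rw [h]
        rwa [smul_smul, mul_inv_cancel₀ h2, one_smul, two_smul] at h5
      exact add_left_cancel h4
    · intro h
      rw [h, half_half h2]
  have h4 : LinearMap.ker ((2 : K)⁻¹ • (1 + A)) = ng A := by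
    ext u
    rw [LinearMap.mem_ker, mem_ng]
    show (2 : K)⁻¹ • (u + A u) = 0 ↔ _
    rw [smul_eq_zero_iff_right (inv_ne_zero h2)]
    constructor
    · intro h; exact eq_neg_of_add_eq_zero_right h
    · intro h; rw [h, add_neg_cancel]
  rw [h3, h4] at h1
  exact h1

/-- **the four-group** -/
theorem four_group (U : Submodule K M) {A B : Module.End K M} (hA : ∀ v, A (A v) = v) (hB : ∀ v, B (B v) = v)
    (hAB : ∀ v, A (B v) = B (A v)) (UA : ∀ u ∈ U, A u ∈ U) (UB : ∀ u ∈ U, B u ∈ U) :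
    finrank K ↥(U ⊓ fx A) + finrank K ↥(U ⊓ fx B) + finrank K ↥(U ⊓ fx (A * B)) =
      finrank K ↥U + 2 * finrank K ↥(U ⊓ fx A ⊓ fx B) := by
  have e1 := inv2 h2 U hA UA
  have e2 := inv2 h2 (U ⊓ fx A) hB (fun u hu => ⟨UB u hu.1, mem_fx.2 (by rw [hAB, mem_fx.1 hu.2])⟩)
  have e3 := inv2 h2 (U ⊓ fx B) hA (fun u hu => ⟨UA u hu.1, mem_fx.2 (by rw [← hAB, mem_fx.1 hu.2])⟩)
  have e4 := inv2 h2 (U ⊓ ng A) hB (fun u hu => ⟨UB u hu.1, mem_ng.2 (by rw [hAB, mem_ng.1 hu.2, map_neg])⟩)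
  have e5 := inv2 h2 (U ⊓ fx (A * B)) hA (fun u hu => ⟨UA u hu.1, mem_fx.2 (by
    have h3 : A (B u) = u := mem_fx.1 hu.2
    show A (B (A u)) = A u
    rw [← hAB, h3])⟩)
  have f1 : U ⊓ fx B ⊓ fx A = U ⊓ fx A ⊓ fx B := by rw [inf_assoc, inf_comm (fx B), ← inf_assoc]
  have f2 : U ⊓ fx B ⊓ ng A = U ⊓ ng A ⊓ fx B := by rw [inf_assoc, inf_comm (fx B), ← inf_assoc]
  have f3 : U ⊓ fx (A * B) ⊓ fx A = U ⊓ fx A ⊓ fx B := by
    ext u
    simp only [Submodule.mem_inf, mem_fx, Module.End.mul_apply]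
    constructor
    · rintro ⟨⟨h1, h2⟩, h3⟩
      refine ⟨⟨h1, h3⟩, ?_⟩
      have h4 : A (A (B u)) = A u := by rw [h2]
      rw [hA, h3] at h4
      exact h4
    · rintro ⟨⟨h1, h2⟩, h3⟩
      exact ⟨⟨h1, by rw [h3, h2]⟩, h2⟩
  have f4 : U ⊓ fx (A * B) ⊓ ng A = U ⊓ ng A ⊓ ng B := by
    ext u
    simp only [Submodule.mem_inf, mem_fx, mem_ng, Module.End.mul_apply]
    constructor
    · rintro ⟨⟨h1, h2⟩, h3⟩
      refine ⟨⟨h1, h3⟩, ?_⟩
      have h4 : A (A (B u)) = A u := by rw [h2]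
      rw [hA, h3] at h4
      exact h4
    · rintro ⟨⟨h1, h2⟩, h3⟩
      exact ⟨⟨h1, by rw [h3, map_neg, h2, neg_neg]⟩, h2⟩
  rw [f1, f2] at e3
  rw [f3, f4] at e5
  omega

end two

section three
variable (h3 : (3 : K) ≠ 0)
include h3

omit [FiniteDimensional K M] in
theorem third (v : M) : (3 : K)⁻¹ • (v + v + v) = v := by
  have : v + v + v = (3 : K) • v := by
    have h : (3 : K) = 1 + 1 + 1 := by norm_num
    rw [h, add_smul, add_smul, one_smul]
  rw [this, smul_smul, inv_mul_cancel₀ h3, one_smul]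

/-- the projection onto the fixed space of an element of order 3 -/
noncomputable def e3 (K : Type u) [Field K] {M : Type v} [AddCommGroup M] [Module K M] (A : Module.End K M) :
    Module.End K M := (3 : K)⁻¹ • (1 + A + A * A)

omit [FiniteDimensional K M] h3 in
theorem e3_apply (A : Module.End K M) (v : M) : e3 K A v = (3 : K)⁻¹ • (v + A v + A (A v)) := rfl

omit [FiniteDimensional K M] in
theorem fx_e3 {A : Module.End K M} (hA : ∀ v, A (A (A v)) = v) : fx (e3 K A) = fx A := by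
  ext u
  rw [mem_fx, mem_fx, e3_apply]
  constructor
  · intro h
    have h4 : A ((3 : K)⁻¹ • (u + A u + A (A u))) = A u := by rw [h]
    rw [map_smul, map_add, map_add, hA] at h4
    rw [← h4, ← h]
    congr 1
    rw [h]
    abel
  · intro h
    rw [h, h, third h3]

omit [FiniteDimensional K M] in
theorem ker_e3 (A : Module.End K M) : LinearMap.ker (e3 K A) = kr A := by
  ext u
  rw [LinearMap.mem_ker, mem_kr, e3_apply, smul_eq_zero_iff_right (inv_ne_zero h3)]

omit [FiniteDimensional K M] in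
theorem e3_idem {A : Module.End K M} (hA : ∀ v, A (A (A v)) = v) (u : M) : e3 K A (e3 K A u) = e3 K A u := by
  have h1 : e3 K A u ∈ fx (e3 K A) := by
    rw [fx_e3 h3 hA, mem_fx, e3_apply, map_smul, map_add, map_add, hA]
    congr 1
    abel
  exact mem_fx.1 h1

theorem idem3 (U : Submodule K M) {A : Module.End K M} (hA : ∀ v, A (A (A v)) = v) (hU : ∀ u ∈ U, e3 K A u ∈ U) :
    finrank K ↥U = finrank K ↥(U ⊓ fx A) + finrank K ↥(U ⊓ kr A) := by
  have h1 := idem U (e3 K A) (fun u _ => e3_idem h3 hA u) hU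
  rwa [fx_e3 h3 hA, ker_e3 h3] at h1

omit [FiniteDimensional K M] h3 in
theorem e3_mem {U : Submodule K M} {A : Module.End K M} (hU : ∀ u ∈ U, A u ∈ U) : ∀ u ∈ U, e3 K A u ∈ U :=
  fun u hu => U.smul_mem _ (U.add_mem (U.add_mem hu (hU u hu)) (hU _ (hU u hu)))

/-- **the symmetric group of degree 3** -/
theorem sym3 (h2 : (2 : K) ≠ 0) (U : Submodule K M) {S T : Module.End K M} (hS : ∀ v, S (S (S v)) = v)
    (hT : ∀ v, T (T v) = v) (hST : ∀ v, T (S v) = S (S (T v))) (US : ∀ u ∈ U, S u ∈ U) (UT : ∀ u ∈ U, T u ∈ U) :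
    2 * finrank K ↥(U ⊓ fx T) + finrank K ↥(U ⊓ fx S) = 2 * finrank K ↥(U ⊓ fx S ⊓ fx T) + finrank K ↥U := by
  have hTSS : ∀ v, T (S (S v)) = S (T v) := fun v => by rw [hST, hST, hS]
  have e1 := idem3 h3 U hS (e3_mem US)
  have hTk : ∀ u ∈ U ⊓ kr S, T u ∈ U ⊓ kr S := by
    rintro u ⟨hu, hk⟩
    refine ⟨UT u hu, mem_kr.2 ?_⟩
    have h4 : T (u + S u + S (S u)) = 0 := by rw [mem_kr.1 hk, map_zero]
    rw [map_add, map_add, hTSS, hST] at h4
    rw [← h4]
    abel
  have e2 := inv2 h2 (U ⊓ kr S) hT hTk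
  have hTe : ∀ u ∈ U ⊓ fx T, e3 K S u ∈ U ⊓ fx T := by
    rintro u ⟨hu, ht⟩
    refine ⟨e3_mem US u hu, mem_fx.2 ?_⟩
    rw [e3_apply, map_smul, map_add, map_add, hTSS, hST, mem_fx.1 ht]
    congr 1
    abel
  have e4 := idem3 h3 (U ⊓ fx T) hS hTe
  have f1 : U ⊓ fx T ⊓ fx S = U ⊓ fx S ⊓ fx T := by rw [inf_assoc, inf_comm (fx T), ← inf_assoc]
  have f2 : U ⊓ fx T ⊓ kr S = U ⊓ kr S ⊓ fx T := by rw [inf_assoc, inf_comm (fx T), ← inf_assoc]
  rw [f1, f2] at e4
  -- the operator `S - S²`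
  have hsq : ∀ u ∈ kr S, (S - S * S) ((S - S * S) u) = -(u + u + u) := by
    intro u hu
    have h4 := mem_kr.1 hu
    show S (S u - S (S u)) - S (S (S u - S (S u))) = _
    simp only [map_sub, hS]
    have h5 : S (S u) = -(u + S u) := by
      rw [eq_neg_iff_add_eq_zero, ← h4]; abel
    rw [h5]
    abel
  have hinj : ∀ u ∈ kr S, (S - S * S) u = 0 → u = 0 := by
    intro u hu h4
    have h5 := hsq u hu
    rw [h4, map_zero] at h5
    rw [← third h3 u, neg_eq_zero.1 h5.symm, smul_zero]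
  have hmem : ∀ u ∈ U ⊓ kr S, (S - S * S) u ∈ U ⊓ kr S := by
    rintro u ⟨hu, hk⟩
    refine ⟨U.sub_mem (US u hu) (US _ (US u hu)), mem_kr.2 ?_⟩
    have h4 := mem_kr.1 hk
    show (S u - S (S u)) + S (S u - S (S u)) + S (S (S u - S (S u))) = 0
    simp only [map_sub, hS]
    abel
  have l1 : finrank K ↥(U ⊓ kr S ⊓ fx T) ≤ finrank K ↥(U ⊓ kr S ⊓ ng T) := by
    refine finrank_le_of _ _ (S - S * S) ?_ (fun u hu => hinj u hu.1.2)
    rintro u ⟨hu, ht⟩
    refine ⟨hmem u hu, mem_ng.2 ?_⟩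
    show T (S u - S (S u)) = -(S u - S (S u))
    rw [map_sub, hTSS, hST, mem_fx.1 ht]
    abel
  have l2 : finrank K ↥(U ⊓ kr S ⊓ ng T) ≤ finrank K ↥(U ⊓ kr S ⊓ fx T) := by
    refine finrank_le_of _ _ (S - S * S) ?_ (fun u hu => hinj u hu.1.2)
    rintro u ⟨hu, ht⟩
    refine ⟨hmem u hu, mem_fx.2 ?_⟩
    show T (S u - S (S u)) = S u - S (S u)
    rw [map_sub, hTSS, hST, mem_ng.1 ht, map_neg, map_neg]
    abel
  omega

/-- **the elementary abelian group of order 9** -/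
theorem nine (U : Submodule K M) {A B : Module.End K M} (hA : ∀ v, A (A (A v)) = v) (hB : ∀ v, B (B (B v)) = v)
    (hAB : ∀ v, A (B v) = B (A v)) (UA : ∀ u ∈ U, A u ∈ U) (UB : ∀ u ∈ U, B u ∈ U) :
    finrank K ↥(U ⊓ fx A) + finrank K ↥(U ⊓ fx B) + finrank K ↥(U ⊓ fx (A * B)) + finrank K ↥(U ⊓ fx (A * B * B)) =
      finrank K ↥U + 3 * finrank K ↥(U ⊓ fx A ⊓ fx B) := by
  have hC : ∀ v, (A * B) ((A * B) ((A * B) v)) = v := fun v => by
    simp only [Module.End.mul_apply, hAB, hA, hB]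
  have e1 := idem3 h3 U hA (e3_mem UA)
  have e2 := idem3 h3 (U ⊓ kr A) hB (e3_mem fun u hu => ⟨UB u hu.1, mem_kr.2 (by
    have h4 : B (u + A u + A (A u)) = 0 := by rw [mem_kr.1 hu.2, map_zero]
    rw [map_add, map_add] at h4
    rw [hAB, hAB, h4])⟩)
  have fxA_mem : ∀ u ∈ U ⊓ fx A, B u ∈ U ⊓ fx A := fun u hu => ⟨UB u hu.1, mem_fx.2 (by rw [hAB, mem_fx.1 hu.2])⟩
  have fxB_mem : ∀ u ∈ U ⊓ fx B, A u ∈ U ⊓ fx B := fun u hu =>
    ⟨UA u hu.1, mem_fx.2 (by rw [← hAB, mem_fx.1 hu.2])⟩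
  have e3' := idem3 h3 (U ⊓ fx B) hA (e3_mem fxB_mem)
  have hW : ∀ u ∈ U ⊓ kr A ⊓ kr B, (A * B) u ∈ U ⊓ kr A ⊓ kr B := by
    rintro u ⟨⟨hu, h4⟩, h5⟩
    rw [SetLike.mem_coe, mem_kr] at h4 h5
    refine ⟨⟨UA _ (UB u hu), mem_kr.2 ?_⟩, mem_kr.2 ?_⟩
    · have h6 : B (A (u + A u + A (A u))) = 0 := by rw [h4, map_zero, map_zero]
      rw [← h6]
      simp only [Module.End.mul_apply, map_add, hAB]
    · have h6 : B (A (u + B u + B (B u))) = 0 := by rw [h5, map_zero, map_zero]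
      rw [← h6]
      simp only [Module.End.mul_apply, map_add, hAB]
  have e4 := idem3 h3 (U ⊓ kr A ⊓ kr B) hC (e3_mem hW)
  have hCA : ∀ u ∈ U ⊓ fx (A * B), A u ∈ U ⊓ fx (A * B) := fun u hu => ⟨UA u hu.1, mem_fx.2 (by
    have h4 : A (B u) = u := mem_fx.1 hu.2
    show A (B (A u)) = A u
    rw [← hAB, h4])⟩
  have e5 := idem3 h3 (U ⊓ fx (A * B)) hA (e3_mem hCA)
  have hDA : ∀ u ∈ U ⊓ fx (A * B * B), A u ∈ U ⊓ fx (A * B * B) := fun u hu => ⟨UA u hu.1, mem_fx.2 (by
    have h4 : A (B (B u)) = u := mem_fx.1 hu.2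
    show A (B (B (A u))) = A u
    rw [← hAB, ← hAB, h4])⟩
  have e6 := idem3 h3 (U ⊓ fx (A * B * B)) hA (e3_mem hDA)
  have f1 : U ⊓ fx B ⊓ fx A = U ⊓ fx A ⊓ fx B := by rw [inf_assoc, inf_comm (fx B), ← inf_assoc]
  have f2 : U ⊓ fx B ⊓ kr A = U ⊓ kr A ⊓ fx B := by rw [inf_assoc, inf_comm (fx B), ← inf_assoc]
  have f3 : U ⊓ fx (A * B) ⊓ fx A = U ⊓ fx A ⊓ fx B := by
    ext u
    simp only [Submodule.mem_inf, mem_fx, Module.End.mul_apply]
    constructor
    · rintro ⟨⟨h1, h2⟩, h4⟩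
      exact ⟨⟨h1, h4⟩, by rw [hAB, h4] at h2; exact h2⟩
    · rintro ⟨⟨h1, h2⟩, h4⟩
      exact ⟨⟨h1, by rw [h4, h2]⟩, h2⟩
  have f4 : U ⊓ kr A ⊓ kr B ⊓ fx (A * B) = U ⊓ fx (A * B) ⊓ kr A := by
    ext u
    simp only [Submodule.mem_inf, mem_fx, mem_kr, Module.End.mul_apply]
    constructor
    · rintro ⟨⟨⟨h1, h2⟩, h4⟩, h5⟩
      exact ⟨⟨h1, h5⟩, h2⟩
    · rintro ⟨⟨h1, h2⟩, h4⟩
      refine ⟨⟨⟨h1, h4⟩, ?_⟩, h2⟩
      have h5 : B u = A (A u) := by
        have h6 : A (A (A (B u))) = A (A u) := by rw [h2]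
        rwa [hA] at h6
      have h6 : B (B u) = A u := by
        rw [h5, ← hAB, ← hAB, h2]
      rw [h6, h5, ← h4]
      abel
  have f5 : U ⊓ fx (A * B * B) ⊓ fx A = U ⊓ fx A ⊓ fx B := by
    ext u
    simp only [Submodule.mem_inf, mem_fx, Module.End.mul_apply]
    constructor
    · rintro ⟨⟨h1, h2⟩, h4⟩
      refine ⟨⟨h1, h4⟩, ?_⟩
      have h5 : B (B u) = u := by rw [hAB, hAB, h4] at h2; exact h2
      have h6 : B (B (B u)) = B u := by rw [h5]
      rw [hB] at h6
      exact h6.symm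
    · rintro ⟨⟨h1, h2⟩, h4⟩
      exact ⟨⟨h1, by rw [h4, h4, h2]⟩, h2⟩
  have f6 : U ⊓ kr A ⊓ kr B ⊓ kr (A * B) = U ⊓ fx (A * B * B) ⊓ kr A := by
    ext u
    simp only [Submodule.mem_inf, mem_fx, mem_kr, Module.End.mul_apply]
    constructor
    · rintro ⟨⟨⟨h1, h2⟩, h4⟩, h5⟩
      refine ⟨⟨h1, ?_⟩, h2⟩
      have k1 : B (u + A u + A (A u)) = 0 := by rw [h2, map_zero]
      have k2 : B (B (u + A u + A (A u))) = 0 := by rw [h2, map_zero, map_zero]
      simp only [map_add, hAB] at k1 k2 h5 ⊢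
      -- `C u + C² u = 2 u`
      have k3 : B (B (A u)) + B (A (A u)) = u + u := by
        linear_combination (norm := module) k1 + k2 - h5 - h4
      have k4 : A (B (B (B (B (A u)) + B (A (A u))))) = A (B (B (u + u))) := by rw [k3]
      simp only [map_add, hAB, hA, hB] at k4
      have k5 : (3 : K) • B (B (A u)) = (3 : K) • u := by
        linear_combination (norm := module) k3 - k4
      exact smul_right_injective M h3 k5
    · rintro ⟨⟨h1, h2⟩, h4⟩
      have h5 : B u = A u := by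
        have h6 : A (A (A (B (B u)))) = A (A u) := by rw [h2]
        rw [hA] at h6
        have h7 : B (B (B u)) = B (A (A u)) := by rw [h6]
        rw [hB] at h7
        have h8 : B (A (A u)) = u := h7.symm
        have h9 : A (B (A (A u))) = A u := by rw [h8]
        rw [hAB, hA] at h9
        exact h9
      have h6 : B (B u) = A (A u) := by rw [h5, ← hAB, h5]
      refine ⟨⟨⟨h1, h4⟩, by rw [h6, h5, h4]⟩, ?_⟩
      rw [h5]
      have h7 : A (B (A (A u))) = A u := by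
        rw [hAB, hA, h5]
      rw [h7, ← h4]
      abel
  rw [f1, f2] at e3'
  rw [f4, f6] at e4
  rw [f3] at e5
  rw [f5] at e6
  omega

end three

/-- **the alternating group of degree 4** -/
theorem alt4 (h2 : (2 : K) ≠ 0) (U : Submodule K M) {A B S : Module.End K M}
    (hA : ∀ v, A (A v) = v) (hB : ∀ v, B (B v) = v) (hS : ∀ v, S (S (S v)) = v) (hAB : ∀ v, A (B v) = B (A v))
    (hSA : ∀ v, S (A v) = B (S v)) (hSB : ∀ v, S (B v) = A (B (S v)))
    (UA : ∀ u ∈ U, A u ∈ U) (UB : ∀ u ∈ U, B u ∈ U) (US : ∀ u ∈ U, S u ∈ U) :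
    3 * finrank K ↥(U ⊓ fx S ⊓ fx A ⊓ fx B) + finrank K ↥U = 3 * finrank K ↥(U ⊓ fx S) + finrank K ↥(U ⊓ fx A ⊓ fx B) := by
  have e1 := inv2 h2 U hA UA
  have e2 := inv2 h2 (U ⊓ fx A) hB (fun u hu => ⟨UB u hu.1, mem_fx.2 (by rw [hAB, mem_fx.1 hu.2])⟩)
  have e4 := inv2 h2 (U ⊓ ng A) hB (fun u hu => ⟨UB u hu.1, mem_ng.2 (by rw [hAB, mem_ng.1 hu.2, map_neg])⟩)
  -- the three other eigenspaces are permuted by `S`
  have l1 : finrank K ↥(U ⊓ fx A ⊓ ng B) ≤ finrank K ↥(U ⊓ ng A ⊓ fx B) := by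
    refine finrank_le_of _ _ S ?_ (fun u _ h => by rw [← hS u, h, map_zero, map_zero])
    rintro u ⟨⟨hu, h4⟩, h5⟩
    rw [SetLike.mem_coe, mem_fx] at h4
    rw [SetLike.mem_coe, mem_ng] at h5
    have h6 : B (S u) = S u := by rw [← hSA, h4]
    refine ⟨⟨US u hu, mem_ng.2 ?_⟩, mem_fx.2 h6⟩
    have h7 := hSB u
    rw [h5, map_neg, h6] at h7
    exact h7.symm
  have l2 : finrank K ↥(U ⊓ ng A ⊓ fx B) ≤ finrank K ↥(U ⊓ ng A ⊓ ng B) := by
    refine finrank_le_of _ _ S ?_ (fun u _ h => by rw [← hS u, h, map_zero, map_zero])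
    rintro u ⟨⟨hu, h4⟩, h5⟩
    rw [SetLike.mem_coe, mem_ng] at h4
    rw [SetLike.mem_coe, mem_fx] at h5
    have h6 : B (S u) = - S u := by rw [← hSA, h4, map_neg]
    refine ⟨⟨US u hu, mem_ng.2 ?_⟩, mem_ng.2 h6⟩
    have h7 := hSB u
    rw [h5, h6, map_neg] at h7
    rw [h7, neg_neg, ← h7]
  have l3 : finrank K ↥(U ⊓ ng A ⊓ ng B) ≤ finrank K ↥(U ⊓ fx A ⊓ ng B) := by
    refine finrank_le_of _ _ S ?_ (fun u _ h => by rw [← hS u, h, map_zero, map_zero])
    rintro u ⟨⟨hu, h4⟩, h5⟩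
    rw [SetLike.mem_coe, mem_ng] at h4 h5
    have h6 : B (S u) = - S u := by rw [← hSA, h4, map_neg]
    refine ⟨⟨US u hu, mem_fx.2 ?_⟩, mem_ng.2 h6⟩
    have h7 := hSB u
    rw [h5, map_neg, h6, map_neg] at h7
    exact (neg_injective h7).symm
  -- the fixed space of `S`
  have h4 : (4 : K) ≠ 0 := by
    have h5 : (4 : K) = 2 * 2 := by norm_num
    rw [h5]; exact mul_ne_zero h2 h2
  have quarter : ∀ v : M, (4 : K)⁻¹ • (v + v + v + v) = v := by
    intro v
    have h5 : v + v + v + v = (4 : K) • v := by module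
    rw [h5, smul_smul, inv_mul_cancel₀ h4, one_smul]
  set e : Module.End K M := (4 : K)⁻¹ • (1 + A + B + A * B) with he
  have e_apply : ∀ v, e v = (4 : K)⁻¹ • (v + A v + B v + A (B v)) := fun v => rfl
  have hA' : ∀ v, B (A v) = A (B v) := fun v => (hAB v).symm
  have eA : ∀ v, A (e v) = e v := by
    intro v
    rw [e_apply, map_smul]
    simp only [map_add, hA]
    congr 1
    abel
  have eB : ∀ v, B (e v) = e v := by
    intro v
    rw [e_apply, map_smul]
    simp only [map_add, hB, hA']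
    congr 1
    abel
  have eSq : ∀ v, e (e v) = e v := by
    intro v
    rw [e_apply (e v), eA, eB, eA, quarter]
  have hfe : ∀ v, e v = v ↔ A v = v ∧ B v = v := by
    intro v
    constructor
    · intro h
      exact ⟨by rw [← h, eA], by rw [← h, eB]⟩
    · rintro ⟨h5, h6⟩
      rw [e_apply, h6, h5, quarter]
  have hSe : ∀ v, S v = v → S (e v) = e v := by
    intro v hv
    rw [e_apply, map_smul]
    simp only [map_add, hSA, hSB, hv, hA', hB]
    congr 1
    abel
  have e5 := idem (U ⊓ fx S) e (fun u _ => eSq u) (fun u hu =>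
    ⟨U.smul_mem _ (U.add_mem (U.add_mem (U.add_mem hu.1 (UA u hu.1)) (UB u hu.1)) (UA _ (UB u hu.1))),
      mem_fx.2 (hSe u (mem_fx.1 hu.2))⟩)
  have f1 : U ⊓ fx S ⊓ fx e = U ⊓ fx S ⊓ fx A ⊓ fx B := by
    ext u
    simp only [Submodule.mem_inf, mem_fx, hfe]
    (clear * -; tauto)
  have l4 : finrank K ↥(U ⊓ fx S ⊓ LinearMap.ker e) ≤ finrank K ↥(U ⊓ fx A ⊓ ng B) := by
    refine finrank_le_of _ _ (1 + A - B - A * B) ?_ ?_
    · rintro u ⟨⟨hu, -⟩, -⟩
      show u + A u - B u - A (B u) ∈ _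
      refine ⟨⟨U.sub_mem (U.sub_mem (U.add_mem hu (UA u hu)) (UB u hu)) (UA _ (UB u hu)), mem_fx.2 ?_⟩, mem_ng.2 ?_⟩
      · simp only [map_add, map_sub, hA]
        abel
      · simp only [map_add, map_sub, hA', hB]
        abel
    · rintro v ⟨⟨-, hv⟩, h5⟩ h6
      rw [SetLike.mem_coe, mem_fx] at hv
      rw [SetLike.mem_coe, LinearMap.mem_ker, e_apply, smul_eq_zero_iff_right (inv_ne_zero h4)] at h5
      have k1 : v + A v - B v - A (B v) = 0 := h6
      have k2 : S (v + A v - B v - A (B v)) = 0 := by rw [k1, map_zero]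
      simp only [map_add, map_sub, hSA, hSB, hv, hA', hB] at k2
      have k3 : S (v + B v - A (B v) - A v) = 0 := by rw [k2, map_zero]
      simp only [map_add, map_sub, hSA, hSB, hv, hA', hB] at k3
      have k4 : (4 : K) • v = (4 : K) • (0 : M) := by
        linear_combination (norm := module) h5 + k1 + k2 + k3
      exact smul_right_injective M h4 k4
  have l5 : finrank K ↥(U ⊓ fx A ⊓ ng B) ≤ finrank K ↥(U ⊓ fx S ⊓ LinearMap.ker e) := by
    refine finrank_le_of _ _ (1 + S + S * S) ?_ ?_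
    · rintro u ⟨⟨hu, h5⟩, h6⟩
      rw [SetLike.mem_coe, mem_fx] at h5
      rw [SetLike.mem_coe, mem_ng] at h6
      have h7 : B (S u) = S u := by rw [← hSA, h5]
      have h8 : A (S u) = - S u := by
        have h9 := hSB u
        rw [h6, map_neg, h7] at h9
        exact h9.symm
      have h10 : B (S (S u)) = - S (S u) := by rw [← hSA, h8, map_neg]
      have h11 : A (S (S u)) = - S (S u) := by
        have h12 := hSB (S u)
        rw [h7, h10, map_neg] at h12
        rw [h12, neg_neg, ← h12]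
      show u + S u + S (S u) ∈ _
      refine ⟨⟨U.add_mem (U.add_mem hu (US u hu)) (US _ (US u hu)), mem_fx.2 ?_⟩, ?_⟩
      · rw [map_add, map_add, hS]; abel
      · rw [SetLike.mem_coe, LinearMap.mem_ker, e_apply]
        simp only [map_add, h5, h6, h7, h8, h10, h11, map_neg]
        rw [smul_eq_zero_iff_right (inv_ne_zero h4)]
        abel
    · rintro u ⟨⟨hu, h5⟩, h6⟩ h13
      rw [SetLike.mem_coe, mem_fx] at h5
      rw [SetLike.mem_coe, mem_ng] at h6
      have h7 : B (S u) = S u := by rw [← hSA, h5]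
      have h8 : A (S u) = - S u := by
        have h9 := hSB u
        rw [h6, map_neg, h7] at h9
        exact h9.symm
      have h10 : B (S (S u)) = - S (S u) := by rw [← hSA, h8, map_neg]
      have h11 : A (S (S u)) = - S (S u) := by
        have h12 := hSB (S u)
        rw [h7, h10, map_neg] at h12
        rw [h12, neg_neg, ← h12]
      have k1 : u + S u + S (S u) = 0 := h13
      have k2 : A (u + S u + S (S u)) = 0 := by rw [k1, map_zero]
      rw [map_add, map_add, h5, h8, h11] at k2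
      refine eq_zero_of_two h2 ?_
      linear_combination (norm := module) k1 + k2
  rw [f1] at e5
  omega

end Cfsg.Agent.R2.PX.A
end

-- part: R2/PX/A/Grp
section
/-!
# Pattern X of S5771, Part A: fixed spaces of lists of group elements (helper7)

* `FX ρ l` : the vectors fixed by the elements of the list `l`; `Stb l g` : a decidable condition for `g` to preserve
  `FX ρ l`;
* `n4`, `nS3`, `n9`, `nA4` : the formulas of `Lin` for group elements;
* `Good` : projections onto `FX ρ l` compatible with an invariant form.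
-/

set_option autoImplicit false

namespace Cfsg.Agent.R2.PX.A

open Module

universe u v w
variable {K : Type u} [Field K] {M : Type v} [AddCommGroup M] [Module K M] {G : Type w} [Group G]

/-- the vectors fixed by the elements of `l` -/
def FX (ρ : Representation K G M) (l : List G) : Submodule K M where
  carrier := {v | ∀ g ∈ l, ρ g v = v}
  add_mem' := by
    intro a b ha hb g hg
    rw [map_add, ha g hg, hb g hg]
  zero_mem' := by intro g _; rw [map_zero]
  smul_mem' := by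
    intro c a ha g hg
    rw [map_smul, ha g hg]

variable {ρ : Representation K G M}

theorem mem_FX {l : List G} {v : M} : v ∈ FX ρ l ↔ ∀ g ∈ l, ρ g v = v := Iff.rfl

theorem FX_nil : FX ρ [] = ⊤ := by
  rw [eq_top_iff]
  intro v _ g hg
  simp at hg

theorem FX_cons (g : G) (l : List G) : FX ρ (g :: l) = FX ρ l ⊓ fx (ρ g) := by
  ext v
  rw [Submodule.mem_inf, mem_FX, mem_FX, mem_fx]
  simp only [List.mem_cons, forall_eq_or_imp]
  exact and_comm

/-- the elements of `l'` are products of two elements of `1 :: l` -/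
def Sb (l l' : List G) : Prop := ∀ h ∈ l', ∃ x ∈ (1 : G) :: l, ∃ y ∈ (1 : G) :: l, h = x * y

instance [DecidableEq G] (l l' : List G) : Decidable (Sb l l') := by unfold Sb; infer_instance

theorem fix_one_cons {l : List G} {v : M} (hv : v ∈ FX ρ l) {x : G} (hx : x ∈ (1 : G) :: l) : ρ x v = v := by
  rcases List.mem_cons.1 hx with rfl | hx
  · rw [map_one]; rfl
  · exact hv x hx

theorem FX_le {l l' : List G} (h : Sb l l') : FX ρ l ≤ FX ρ l' := by
  intro v hv g hg
  obtain ⟨x, hx, y, hy, rfl⟩ := h g hg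
  rw [map_mul, Module.End.mul_apply, fix_one_cons hv hy, fix_one_cons hv hx]

theorem FX_eq {l l' : List G} (h : Sb l l') (h' : Sb l' l) : FX ρ l = FX ρ l' := le_antisymm (FX_le h) (FX_le h')

/-- `g` normalises the subgroup generated by `l` -/
def Stb (l : List G) (g : G) : Prop := Sb l (l.map fun h => g⁻¹ * h * g)

instance [DecidableEq G] (l : List G) (g : G) : Decidable (Stb l g) := by unfold Stb; infer_instance

theorem Stb.mem {l : List G} {g : G} (h : Stb l g) {v : M} (hv : v ∈ FX ρ l) : ρ g v ∈ FX ρ l := by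
  intro x hx
  have h1 := FX_le (ρ := ρ) h hv (g⁻¹ * x * g) (List.mem_map.2 ⟨x, hx, rfl⟩)
  calc ρ x (ρ g v) = ρ (x * g) v := by rw [map_mul]; rfl
    _ = ρ (g * (g⁻¹ * x * g)) v := by congr 2; group
    _ = ρ g (ρ (g⁻¹ * x * g) v) := by rw [map_mul]; rfl
    _ = ρ g v := by rw [h1]

/-- conditions for a four-group -/
def C4 (l : List G) (a b : G) : Prop := a * a = 1 ∧ b * b = 1 ∧ a * b = b * a ∧ Stb l a ∧ Stb l b

instance [DecidableEq G] (l : List G) (a b : G) : Decidable (C4 l a b) := by unfold C4; infer_instance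

/-- conditions for a symmetric group -/
def CS3 (l : List G) (s t : G) : Prop := s * s * s = 1 ∧ t * t = 1 ∧ t * s = s * s * t ∧ Stb l s ∧ Stb l t

instance [DecidableEq G] (l : List G) (a b : G) : Decidable (CS3 l a b) := by unfold CS3; infer_instance

/-- conditions for a group `3²` -/
def C9 (l : List G) (a b : G) : Prop := a * a * a = 1 ∧ b * b * b = 1 ∧ a * b = b * a ∧ Stb l a ∧ Stb l b

instance [DecidableEq G] (l : List G) (a b : G) : Decidable (C9 l a b) := by unfold C9; infer_instance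

/-- conditions for `A₄` -/
def CA4 (l : List G) (a b s : G) : Prop := a * a = 1 ∧ b * b = 1 ∧ s * s * s = 1 ∧ a * b = b * a ∧ s * a = b * s ∧
  s * b = a * b * s ∧ Stb l a ∧ Stb l b ∧ Stb l s

instance [DecidableEq G] (l : List G) (a b s : G) : Decidable (CA4 l a b s) := by unfold CA4; infer_instance

theorem ρ_two {a : G} (h : a * a = 1) (v : M) : ρ a (ρ a v) = v := by
  rw [← Module.End.mul_apply, ← map_mul, h, map_one]; rfl

theorem ρ_three {a : G} (h : a * a * a = 1) (v : M) : ρ a (ρ a (ρ a v)) = v := by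
  have h1 := congrArg (fun g => ρ g v) h
  simpa only [map_mul, Module.End.mul_apply, map_one, Module.End.one_apply] using h1

theorem ρ_comm {a b : G} (h : a * b = b * a) (v : M) : ρ a (ρ b v) = ρ b (ρ a v) := by
  rw [← Module.End.mul_apply, ← Module.End.mul_apply, ← map_mul, ← map_mul, h]

/-- the dimension of the fixed space -/
noncomputable def nn (ρ : Representation K G M) (l : List G) : ℕ := finrank K ↥(FX ρ l)

theorem nn_nil : nn ρ [] = finrank K M := by
  rw [nn, FX_nil, finrank_top]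

theorem nn_one (g : G) : nn ρ [g] = finrank K ↥(Module.End.eigenspace (ρ g) 1) := by
  rw [nn, FX_cons, FX_nil, top_inf_eq, fx]

theorem nn_eq {l l' : List G} (h : Sb l l' ∧ Sb l' l) : nn ρ l = nn ρ l' := by
  rw [nn, FX_eq h.1 h.2, nn]

variable [FiniteDimensional K M]

theorem nn_le {l l' : List G} (h : Sb l l') : nn ρ l ≤ nn ρ l' := Submodule.finrank_mono (FX_le h)

theorem n4 (h2 : (2 : K) ≠ 0) {l : List G} {a b : G} (h : C4 l a b) :
    nn ρ (a :: l) + nn ρ (b :: l) + nn ρ (a * b :: l) = nn ρ l + 2 * nn ρ (b :: a :: l) := by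
  obtain ⟨ha, hb, hab, sa, sb⟩ := h
  have h1 := four_group h2 (FX ρ l) (A := ρ a) (B := ρ b) (ρ_two ha) (ρ_two hb) (ρ_comm hab) (fun u hu => sa.mem hu)
    (fun u hu => sb.mem hu)
  rw [← map_mul] at h1
  rw [← FX_cons, ← FX_cons, ← FX_cons, ← FX_cons] at h1
  exact h1

theorem nS3 (h2 : (2 : K) ≠ 0) (h3 : (3 : K) ≠ 0) {l : List G} {s t : G} (h : CS3 l s t) :
    2 * nn ρ (t :: l) + nn ρ (s :: l) = 2 * nn ρ (t :: s :: l) + nn ρ l := by
  obtain ⟨hs, ht, hst, ss, st⟩ := h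
  have h1 := sym3 h3 h2 (FX ρ l) (S := ρ s) (T := ρ t) (ρ_three hs) (ρ_two ht) (fun v => by
    have h1 := congrArg (fun g => ρ g v) hst
    simpa only [map_mul, Module.End.mul_apply] using h1) (fun u hu => ss.mem hu) (fun u hu => st.mem hu)
  rw [← FX_cons, ← FX_cons, ← FX_cons] at h1
  exact h1

theorem n9 (h3 : (3 : K) ≠ 0) {l : List G} {a b : G} (h : C9 l a b) :
    nn ρ (a :: l) + nn ρ (b :: l) + nn ρ (a * b :: l) + nn ρ (a * b * b :: l) = nn ρ l + 3 * nn ρ (b :: a :: l) := by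
  obtain ⟨ha, hb, hab, sa, sb⟩ := h
  have h1 := nine h3 (FX ρ l) (A := ρ a) (B := ρ b) (ρ_three ha) (ρ_three hb) (ρ_comm hab) (fun u hu => sa.mem hu)
    (fun u hu => sb.mem hu)
  rw [← map_mul, ← map_mul] at h1
  rw [← FX_cons, ← FX_cons, ← FX_cons, ← FX_cons, ← FX_cons] at h1
  exact h1

theorem nA4 (h2 : (2 : K) ≠ 0) {l : List G} {a b s : G} (h : CA4 l a b s) :
    3 * nn ρ (b :: a :: s :: l) + nn ρ l = 3 * nn ρ (s :: l) + nn ρ (b :: a :: l) := by
  obtain ⟨ha, hb, hs, hab, hsa, hsb, sa, sb, ss⟩ := h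
  have h1 := alt4 h2 (FX ρ l) (A := ρ a) (B := ρ b) (S := ρ s) (ρ_two ha) (ρ_two hb) (ρ_three hs) (ρ_comm hab)
    (fun v => by rw [← Module.End.mul_apply, ← Module.End.mul_apply, ← map_mul, ← map_mul, hsa])
    (fun v => by
      have h1 := congrArg (fun g => ρ g v) hsb
      simpa only [map_mul, Module.End.mul_apply] using h1) (fun u hu => sa.mem hu) (fun u hu => sb.mem hu)
    (fun u hu => ss.mem hu)
  rw [← FX_cons, ← FX_cons, ← FX_cons, ← FX_cons, ← FX_cons] at h1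
  exact h1

/-- conjugation -/
theorem nn_conj (l : List G) (g : G) : nn ρ (l.map fun h => g * h * g⁻¹) = nn ρ l := by
  have key : ∀ (l : List G) (g : G), nn ρ l ≤ nn ρ (l.map fun h => g * h * g⁻¹) := by
    intro l g
    refine finrank_le_of _ _ (ρ g) ?_ (fun u _ h => ?_)
    · intro u hu x hx
      obtain ⟨y, hy, rfl⟩ := List.mem_map.1 hx
      calc ρ (g * y * g⁻¹) (ρ g u) = ρ (g * y * g⁻¹ * g) u := by rw [map_mul _ (g * y * g⁻¹) g]; rfl
        _ = ρ (g * y) u := by congr 2; group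
        _ = ρ g (ρ y u) := by rw [map_mul]; rfl
        _ = ρ g u := by rw [hu y hy]
    · have h1 : ρ g⁻¹ (ρ g u) = u := by
        rw [← Module.End.mul_apply, ← map_mul, inv_mul_cancel, map_one]; rfl
      rw [← h1, h, map_zero]
  apply le_antisymm _ (key l g)
  have h1 := key (l.map fun h => g * h * g⁻¹) g⁻¹
  have h2 : (l.map fun h => g * h * g⁻¹).map (fun h => g⁻¹ * h * g⁻¹⁻¹) = l := by
    rw [List.map_map]
    have h3 : ((fun h => g⁻¹ * h * g⁻¹⁻¹) ∘ fun h => g * h * g⁻¹) = (id : G → G) := by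
      funext x
      show g⁻¹ * (g * x * g⁻¹) * g⁻¹⁻¹ = x
      group
    rw [h3, List.map_id]
  rwa [h2] at h1

/-! ### invariant forms -/

variable (B : M →ₗ[K] M →ₗ[K] K)

omit [FiniteDimensional K M] in
/-- a map onto `FX ρ l` compatible with the form -/
def Good (ρ : Representation K G M) (l : List G) : Prop := ∃ e : Module.End K M, (∀ x, e x ∈ FX ρ l) ∧
  ∀ u ∈ FX ρ l, ∀ x, B u (e x) = B u x

variable {B}

omit [FiniteDimensional K M] in
theorem good_nil : Good B ρ [] := ⟨1, fun x g hg => by simp at hg, fun _ _ _ => rfl⟩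

omit [FiniteDimensional K M] in
theorem form_fix (hB : ∀ g x y, B (ρ g x) (ρ g y) = B x y) {g : G} {u : M} (hu : ρ g u = u) (x : M) :
    B u (ρ g x) = B u x := by
  have h := hB g u x
  rwa [hu] at h

omit [FiniteDimensional K M] in
theorem good_two (h2 : (2 : K) ≠ 0) (hB : ∀ g x y, B (ρ g x) (ρ g y) = B x y) {l : List G} (h : Good B ρ l) {a : G}
    (ha : a * a = 1 ∧ Stb l a) : Good B ρ (a :: l) := by
  obtain ⟨e, he, he'⟩ := h
  obtain ⟨ha, sa⟩ := ha
  refine ⟨(2 : K)⁻¹ • (e + ρ a * e), fun x => ?_, fun u hu x => ?_⟩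
  · show (2 : K)⁻¹ • (e x + ρ a (e x)) ∈ _
    rw [FX_cons]
    refine ⟨(FX ρ l).smul_mem _ ((FX ρ l).add_mem (he x) (sa.mem (he x))), mem_fx.2 ?_⟩
    rw [map_smul, map_add, ρ_two ha, add_comm]
  · rw [FX_cons] at hu
    show B u ((2 : K)⁻¹ • (e x + ρ a (e x))) = B u x
    rw [map_smul, map_add, form_fix hB (mem_fx.1 hu.2), he' u hu.1, ← two_smul K, smul_smul, inv_mul_cancel₀ h2,
      one_smul]

omit [FiniteDimensional K M] in
theorem good_three (h3 : (3 : K) ≠ 0) (hB : ∀ g x y, B (ρ g x) (ρ g y) = B x y) {l : List G} (h : Good B ρ l) {a : G}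
    (ha : a * a * a = 1 ∧ Stb l a) : Good B ρ (a :: l) := by
  obtain ⟨e, he, he'⟩ := h
  obtain ⟨ha, sa⟩ := ha
  refine ⟨(3 : K)⁻¹ • (e + ρ a * e + ρ a * (ρ a * e)), fun x => ?_, fun u hu x => ?_⟩
  · show (3 : K)⁻¹ • (e x + ρ a (e x) + ρ a (ρ a (e x))) ∈ _
    rw [FX_cons]
    refine ⟨(FX ρ l).smul_mem _ ((FX ρ l).add_mem ((FX ρ l).add_mem (he x) (sa.mem (he x)))
      (sa.mem (sa.mem (he x)))), mem_fx.2 ?_⟩
    rw [map_smul, map_add, map_add, ρ_three ha]
    congr 1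
    abel
  · rw [FX_cons] at hu
    show B u ((3 : K)⁻¹ • (e x + ρ a (e x) + ρ a (ρ a (e x)))) = B u x
    rw [map_smul, map_add, map_add, form_fix hB (mem_fx.1 hu.2), form_fix hB (mem_fx.1 hu.2),
      form_fix hB (mem_fx.1 hu.2), he' u hu.1]
    have h4 : B u x + B u x + B u x = (3 : K) * B u x := by ring
    rw [h4, smul_eq_mul, ← mul_assoc, inv_mul_cancel₀ h3, one_mul]

/-- **anisotropy** of one-dimensional fixed spaces -/
theorem aniso_of {l : List G} (h : Good B ρ l) (h1 : nn ρ l = 1) (hnd : ∀ x, (∀ y, B x y = 0) → x = 0) {z : M}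
    (hz : z ∈ FX ρ l) (h0 : B z z = 0) : z = 0 := by
  by_contra hne
  apply hne
  apply hnd
  intro y
  obtain ⟨e, he, he'⟩ := h
  rw [← he' z hz]
  have h3 : Module.Finite K ↥(FX ρ l) := inferInstance
  have h4 : ((⟨z, hz⟩ : ↥(FX ρ l)) : ↥(FX ρ l)) ≠ 0 := fun h5 => hne (congrArg Subtype.val h5)
  obtain ⟨c, hc⟩ := exists_smul_eq_of_finrank_eq_one (K := K) h1 h4 ⟨e y, he y⟩
  have h5 : c • z = e y := congrArg Subtype.val hc
  rw [← h5, map_smul, h0, smul_zero]

end Cfsg.Agent.R2.PX.A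
end

private theorem dce_88229a55087b : _root_.True := by
  try have : _root_.True := by simp only [_root_.Cfsg.Agent.R2.PX.A.ng.eq_1]
  try have : _root_.True := by simp only [_root_.Cfsg.Agent.R2.PX.A.fx.eq_1]
  try have : _root_.True := by simp only [_root_.Cfsg.Agent.R2.PX.A.kr.eq_1]
  try have : _root_.True := by simp only [_root_.Cfsg.Agent.R2.PX.A.nn.eq_1]
  exact _root_.True.intro
end

-- part: R2/T1/E5/Count
section
set_option linter.all false
open scoped Cfsg.Agent.FastGrp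

/-!
# S5771, n = 8, p = 5: counting in `3² × 2` (helper24)
-/

set_option autoImplicit false

namespace Cfsg.Agent.R2.T1.E5

open Module
open Cfsg.Agent.H952.F4 (ev es)
open Cfsg.Agent.R2.PX.A

universe u v w

variable {K : Type u} [Field K] {M : Type v} [AddCommGroup M] [Module K M] {G : Type w} [Group G]
  {ρ : Representation K G M}

theorem nn_two' {w s : G} (hw : w ^ 3 = 1) (hs : s ^ 2 = 1) (hc : w * s = s * w) : nn ρ [w, s] = ev (ρ (w * s)) 1 := by
  have h : FX ρ [w, s] = Module.End.eigenspace (ρ (w * s)) 1 := by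
    ext v
    rw [mem_FX, Module.End.mem_eigenspace_iff, one_smul]
    simp only [List.mem_cons, List.not_mem_nil, or_false, forall_eq_or_imp, forall_eq]
    constructor
    · rintro ⟨h1, h2⟩
      rw [map_mul, Module.End.mul_apply, h2, h1]
    · intro h
      have hpow : ∀ n : ℕ, ρ ((w * s) ^ n) v = v := by
        intro n
        induction n with
        | zero => rw [pow_zero, map_one, Module.End.one_apply]
        | succ n ih => rw [pow_succ, map_mul, Module.End.mul_apply, h, ih]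
      have h3 := hpow 3
      have h4 := hpow 4
      have hc' : Commute w s := hc
      rw [hc'.mul_pow] at h3 h4
      have e1 : s ^ 3 = s := by rw [pow_succ, hs, one_mul]
      have e2 : s ^ 4 = 1 := by rw [show (4 : ℕ) = 2 * 2 by norm_num, pow_mul, hs, one_pow]
      have e3 : w ^ 4 = w := by rw [pow_succ, hw, one_mul]
      rw [hw, e1, one_mul] at h3
      rw [e2, e3, mul_one] at h4
      exact ⟨h4, h3⟩
  rw [nn, h, ev]

/-- **counting** -/
theorem count [FiniteDimensional K M] (h3 : (3 : K) ≠ 0) {x z s : G} (hx : x ^ 3 = 1) (hz : z ^ 3 = 1) (hs : s ^ 2 = 1)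
    (hxz : x * z = z * x) (cx : x * s = s * x) (cz : z * s = s * z) (hfix : ∀ v, ρ x v = v → ρ s v = v) :
    ∃ e : ℕ, ev (ρ x) 1 + ev (ρ z) 1 + ev (ρ (x * z)) 1 + ev (ρ (x * z * z)) 1 = finrank K M + 3 * e ∧
      ev (ρ x) 1 + ev (ρ (z * s)) 1 + ev (ρ (x * z * s)) 1 + ev (ρ (x * z * z * s)) 1 = ev (ρ s) 1 + 3 * e ∧
      e ≤ ev (ρ (z * s)) 1 ∧ e ≤ ev (ρ (x * z * s)) 1 ∧ e ≤ ev (ρ (x * z * z * s)) 1 ∧ ev (ρ (x * s)) 1 = ev (ρ x) 1 := by
  have hC : Commute x z := hxz
  have oxz : (x * z) ^ 3 = 1 := by rw [hC.mul_pow, hx, hz, one_mul]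
  have oxzz : (x * z * z) ^ 3 = 1 := by
    rw [mul_assoc, (hC.mul_right hC).mul_pow, hx, one_mul, ← pow_two, ← pow_mul, mul_comm 2 3, pow_mul, hz, one_pow]
  have hx3 : x * x * x = 1 := by rw [← pow_three', hx]
  have hz3 : z * z * z = 1 := by rw [← pow_three', hz]
  have kx : Commute x s := cx
  have kz : Commute z s := cz
  have cxz : (x * z) * s = s * (x * z) := kx.mul_left kz
  have cxzz : (x * z * z) * s = s * (x * z * z) := (kx.mul_left kz).mul_left kz
  have stb : ∀ (l : List G) (g : G), (∀ h ∈ l, g * h = h * g) → Stb l g := by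
    intro l g hg h hh
    obtain ⟨k, hk, rfl⟩ := List.mem_map.1 hh
    refine ⟨k, List.mem_cons_of_mem _ hk, 1, List.mem_cons_self, ?_⟩
    rw [mul_one, mul_assoc, ← hg k hk, inv_mul_cancel_left]
  have c9 : C9 [] x z := ⟨hx3, hz3, hxz, stb _ _ (by simp), stb _ _ (by simp)⟩
  have c9s : C9 [s] x z := ⟨hx3, hz3, hxz, stb _ _ (by simpa using cx), stb _ _ (by simpa using cz)⟩
  have h1 : FX ρ [z, x, s] = FX ρ [z, x] := by
    ext v
    rw [mem_FX, mem_FX]
    simp only [List.mem_cons, List.not_mem_nil, or_false, forall_eq_or_imp, forall_eq]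
    exact ⟨fun h => ⟨h.1, h.2.1⟩, fun h => ⟨h.1, h.2, hfix v h.2⟩⟩
  have h2 : FX ρ [x, s] = FX ρ [x] := by
    ext v
    rw [mem_FX, mem_FX]
    simp only [List.mem_cons, List.not_mem_nil, or_false, forall_eq_or_imp, forall_eq]
    exact ⟨fun h => h.1, fun h => ⟨h, hfix v h⟩⟩
  have hge : ∀ w : G, (∀ v, ρ x v = v → ρ z v = v → ρ w v = v) → nn ρ [z, x] ≤ nn ρ [w, s] := by
    intro w hw
    apply Submodule.finrank_mono
    intro v hv
    rw [mem_FX] at hv ⊢
    simp only [List.mem_cons, List.not_mem_nil, or_false, forall_eq_or_imp, forall_eq] at hv ⊢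
    exact ⟨hw v hv.2 hv.1, hfix v hv.2⟩
  have n1 := n9 (ρ := ρ) h3 c9
  have n2 := n9 (ρ := ρ) h3 c9s
  rw [nn_nil] at n1
  have e1 : nn ρ [z, x, s] = nn ρ [z, x] := by rw [nn, h1, nn]
  have e2 : nn ρ [x, s] = nn ρ [x] := by rw [nn, h2, nn]
  have e3 : ∀ g : G, nn ρ [g] = ev (ρ g) 1 := fun g => nn_one g
  have g1 := hge z (fun v _ h => h)
  have g2 := hge (x * z) (fun v h h' => by rw [map_mul, Module.End.mul_apply, h', h])
  have g3 := hge (x * z * z) (fun v h h' => by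
    rw [map_mul, map_mul, Module.End.mul_apply, Module.End.mul_apply, h', h', h])
  rw [nn_two' hz hs cz] at g1
  rw [nn_two' oxz hs cxz] at g2
  rw [nn_two' oxzz hs cxzz] at g3
  rw [e1, e2, nn_two' hz hs cz, nn_two' oxz hs cxz, nn_two' oxzz hs cxzz, e3, e3] at n2
  rw [e3, e3, e3, e3] at n1
  refine ⟨nn ρ [z, x], n1, n2, g1, g2, g3, ?_⟩
  rw [← nn_two' hx hs cx, e2, e3]

/-- the inverse has the same fixed points -/
theorem ev_inv (w : G) : ev (ρ w⁻¹) 1 = ev (ρ w) 1 := by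
  have h : Module.End.eigenspace (ρ w⁻¹) 1 = Module.End.eigenspace (ρ w) 1 := by
    ext v
    rw [Module.End.mem_eigenspace_iff, Module.End.mem_eigenspace_iff, one_smul]
    constructor
    · intro h
      conv_lhs => rw [← h]
      rw [← Module.End.mul_apply, ← map_mul, mul_inv_cancel, map_one, Module.End.one_apply]
    · intro h
      conv_lhs => rw [← h]
      rw [← Module.End.mul_apply, ← map_mul, inv_mul_cancel, map_one, Module.End.one_apply]
  rw [ev, h, ev]

theorem fix_pow {y : G} {v : M} (h : ρ y v = v) (n : ℕ) : ρ (y ^ n) v = v := by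
  induction n with
  | zero => rw [pow_zero, map_one, Module.End.one_apply]
  | succ n ih => rw [pow_succ, map_mul, Module.End.mul_apply, h, ih]

end Cfsg.Agent.R2.T1.E5

private theorem dce_52dc9cd2147a : _root_.True := by
  try have : _root_.True := by simp only [_root_.Cfsg.Agent.H952.F4.ev.eq_1]
  exact _root_.True.intro
end

-- part: R2/PX/A/El2
section
set_option linter.all false
open scoped Cfsg.Agent.FastGrp

-- part: R2/PX/A/El
section
/-!
# Pattern X of S5771, Part A: the dimensions of the fixed spaces of some subgroups of `A₈` (helper7)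

* `Pt ρ d d2 d24 d3 d33` : dimension and dimensions of the fixed spaces of the elements of types `2², 2⁴, 3, 3²`;
* `dimL` : the fixed space of `A₄ × A₄` is one-dimensional for `(133, 69, 69, 43, 43)`; `goodL`;
* `dimP` : `(0 1)(3 4)` acts trivially on the fixed space of `⟨(0 1 2), (3 4 5)⟩` for `(56, 32, 24, 20, 20)`;
* `dimE` : the regular group `2³` has no fixed vectors for `(56, 32, 24, 20, 20)`.
-/

set_option autoImplicit false
set_option maxRecDepth 100000

namespace Cfsg.Agent.R2.PX.A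

open Equiv Module

/-- the alternating group of degree 8 -/
abbrev A8 : Type := ↥(alternatingGroup (Fin 8))

/-- `(0 1)(2 3)` -/
def a1 : A8 := ⟨swap (0 : Fin 8) 1 * swap (2 : Fin 8) 3, by rw [Equiv.Perm.mem_alternatingGroup]; decide +kernel⟩
/-- `(0 2)(1 3)` -/
def a2 : A8 := ⟨swap (0 : Fin 8) 2 * swap (1 : Fin 8) 3, by rw [Equiv.Perm.mem_alternatingGroup]; decide +kernel⟩
/-- `(1 2 3)` -/
def s1 : A8 := ⟨swap (1 : Fin 8) 2 * swap (2 : Fin 8) 3, by rw [Equiv.Perm.mem_alternatingGroup]; decide +kernel⟩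
/-- `(4 5)(6 7)` -/
def b1 : A8 := ⟨swap (4 : Fin 8) 5 * swap (6 : Fin 8) 7, by rw [Equiv.Perm.mem_alternatingGroup]; decide +kernel⟩
/-- `(4 6)(5 7)` -/
def b2 : A8 := ⟨swap (4 : Fin 8) 6 * swap (5 : Fin 8) 7, by rw [Equiv.Perm.mem_alternatingGroup]; decide +kernel⟩
/-- `(5 6 7)` -/
def s2 : A8 := ⟨swap (5 : Fin 8) 6 * swap (6 : Fin 8) 7, by rw [Equiv.Perm.mem_alternatingGroup]; decide +kernel⟩
/-- `(1 2)(5 6)` -/
def t1 : A8 := ⟨swap (1 : Fin 8) 2 * swap (5 : Fin 8) 6, by rw [Equiv.Perm.mem_alternatingGroup]; decide +kernel⟩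
/-- `(0 1 2)` -/
def p1 : A8 := ⟨swap (0 : Fin 8) 1 * swap (1 : Fin 8) 2, by rw [Equiv.Perm.mem_alternatingGroup]; decide +kernel⟩
/-- `(3 4 5)` -/
def p2 : A8 := ⟨swap (3 : Fin 8) 4 * swap (4 : Fin 8) 5, by rw [Equiv.Perm.mem_alternatingGroup]; decide +kernel⟩
/-- `(0 1)(3 4)` -/
def t2 : A8 := ⟨swap (0 : Fin 8) 1 * swap (3 : Fin 8) 4, by rw [Equiv.Perm.mem_alternatingGroup]; decide +kernel⟩
/-- `(0 1)(2 3)(4 5)(6 7)` -/
def e1 : A8 := ⟨swap (0 : Fin 8) 1 * swap (2 : Fin 8) 3 * swap (4 : Fin 8) 5 * swap (6 : Fin 8) 7, by rw [Equiv.Perm.mem_alternatingGroup]; decide +kernel⟩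
/-- `(0 2)(1 3)(4 6)(5 7)` -/
def e2 : A8 := ⟨swap (0 : Fin 8) 2 * swap (1 : Fin 8) 3 * swap (4 : Fin 8) 6 * swap (5 : Fin 8) 7, by rw [Equiv.Perm.mem_alternatingGroup]; decide +kernel⟩
/-- `(0 4)(1 5)(2 6)(3 7)` -/
def c1 : A8 := ⟨swap (0 : Fin 8) 4 * swap (1 : Fin 8) 5 * swap (2 : Fin 8) 6 * swap (3 : Fin 8) 7, by rw [Equiv.Perm.mem_alternatingGroup]; decide +kernel⟩

universe u v
variable {K : Type u} [Field K] {M : Type v} [AddCommGroup M] [Module K M]

/-- dimension and dimensions of the fixed spaces of the elements of types `2², 2⁴, 3, 3²` -/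
structure Pt (ρ : Representation K A8 M) (d d2 d24 d3 d33 : ℕ) : Prop where
  dim : finrank K M = d
  c2 : ∀ a : A8, (a : Perm (Fin 8)).cycleType = {2, 2} → nn ρ [a] = d2
  c24 : ∀ a : A8, (a : Perm (Fin 8)).cycleType = {2, 2, 2, 2} → nn ρ [a] = d24
  c3 : ∀ a : A8, (a : Perm (Fin 8)).cycleType = {3} → nn ρ [a] = d3
  c33 : ∀ a : A8, (a : Perm (Fin 8)).cycleType = {3, 3} → nn ρ [a] = d33

variable {ρ : Representation K A8 M}

theorem dimL [FiniteDimensional K M] (h2 : (2 : K) ≠ 0) (h3 : (3 : K) ≠ 0) (h : Pt ρ 133 69 69 43 43) :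
    nn ρ [b2, b1, s2, s1, a2, a1] = 1 := by
  have h0 : nn ρ [] = 133 := by rw [nn_nil, h.dim]
  -- involutions
  have ea1 := h.c2 a1 (by decide +kernel)
  have ea2 := h.c2 a2 (by decide +kernel)
  have ea3 := h.c2 (a1 * a2) (by decide +kernel)
  have eb1 := h.c2 b1 (by decide +kernel)
  have eb2 := h.c2 b2 (by decide +kernel)
  have eb3 := h.c2 (b1 * b2) (by decide +kernel)
  have x11 := h.c24 (b1 * a1) (by decide +kernel)
  have x12 := h.c24 (b1 * a2) (by decide +kernel)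
  have x13 := h.c24 (b1 * (a1 * a2)) (by decide +kernel)
  have x21 := h.c24 (b2 * a1) (by decide +kernel)
  have x22 := h.c24 (b2 * a2) (by decide +kernel)
  have x23 := h.c24 (b2 * (a1 * a2)) (by decide +kernel)
  have x31 := h.c24 (b1 * b2 * a1) (by decide +kernel)
  have x32 := h.c24 (b1 * b2 * a2) (by decide +kernel)
  have x33 := h.c24 (b1 * b2 * (a1 * a2)) (by decide +kernel)
  have f1 := n4 (ρ := ρ) h2 (l := []) (a := a1) (b := a2) (by decide +kernel)
  have fb := n4 (ρ := ρ) h2 (l := []) (a := b1) (b := b2) (by decide +kernel)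
  have y11 := n4 (ρ := ρ) h2 (l := []) (a := b1) (b := a1) (by decide +kernel)
  have y12 := n4 (ρ := ρ) h2 (l := []) (a := b1) (b := a2) (by decide +kernel)
  have y13 := n4 (ρ := ρ) h2 (l := []) (a := b1) (b := a1 * a2) (by decide +kernel)
  have y21 := n4 (ρ := ρ) h2 (l := []) (a := b2) (b := a1) (by decide +kernel)
  have y22 := n4 (ρ := ρ) h2 (l := []) (a := b2) (b := a2) (by decide +kernel)
  have y23 := n4 (ρ := ρ) h2 (l := []) (a := b2) (b := a1 * a2) (by decide +kernel)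
  have y31 := n4 (ρ := ρ) h2 (l := []) (a := b1 * b2) (b := a1) (by decide +kernel)
  have y32 := n4 (ρ := ρ) h2 (l := []) (a := b1 * b2) (b := a2) (by decide +kernel)
  have y33 := n4 (ρ := ρ) h2 (l := []) (a := b1 * b2) (b := a1 * a2) (by decide +kernel)
  have z1 := n4 (ρ := ρ) h2 (l := [b1]) (a := a1) (b := a2) (by decide +kernel)
  have z2 := n4 (ρ := ρ) h2 (l := [b2]) (a := a1) (b := a2) (by decide +kernel)
  have z3 := n4 (ρ := ρ) h2 (l := [b1 * b2]) (a := a1) (b := a2) (by decide +kernel)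
  have w1 : nn ρ [a2, a1, b1] = nn ρ [b1, a2, a1] := nn_eq (by decide +kernel)
  have w2 : nn ρ [a2, a1, b2] = nn ρ [b2, a2, a1] := nn_eq (by decide +kernel)
  have w3 : nn ρ [a2, a1, b1 * b2] = nn ρ [b1 * b2, a2, a1] := nn_eq (by decide +kernel)
  have f2 := n4 (ρ := ρ) h2 (l := [a2, a1]) (a := b1) (b := b2) (by decide +kernel)
  -- elements of order 3
  have es1 := h.c3 s1 (by decide +kernel)
  have es2 := h.c33 (s1 * s2) (by decide +kernel)
  have es3 := h.c33 (s1 * s2 * s2) (by decide +kernel)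
  have g1 := nA4 (ρ := ρ) h2 (l := []) (a := a1) (b := a2) (s := s1) (by decide +kernel)
  have g2 := nA4 (ρ := ρ) h2 (l := []) (a := a1) (b := a2) (s := s1 * s2) (by decide +kernel)
  have g3 := nA4 (ρ := ρ) h2 (l := []) (a := a1) (b := a2) (s := s1 * s2 * s2) (by decide +kernel)
  have w4 : nn ρ [a2, a1, s1] = nn ρ [s1, a2, a1] := nn_eq (by decide +kernel)
  have w5 : nn ρ [a2, a1, s1 * s2] = nn ρ [s1 * s2, a2, a1] := nn_eq (by decide +kernel)
  have w6 : nn ρ [a2, a1, s1 * s2 * s2] = nn ρ [s1 * s2 * s2, a2, a1] := nn_eq (by decide +kernel)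
  have k1 := n9 (ρ := ρ) h3 (l := [a2, a1]) (a := s1) (b := s2) (by decide +kernel)
  have k2 := nS3 (ρ := ρ) h2 h3 (l := [a2, a1]) (s := s2) (t := t1) (by decide +kernel)
  have k3 := nA4 (ρ := ρ) h2 (l := [a2, a1]) (a := b1) (b := b2) (s := s2) (by decide +kernel)
  have k4 := nA4 (ρ := ρ) h2 (l := [b2, b1]) (a := a1) (b := a2) (s := s1) (by decide +kernel)
  have k5 := nA4 (ρ := ρ) h2 (l := [s1, a2, a1]) (a := b1) (b := b2) (s := s2) (by decide +kernel)
  have k6 := nA4 (ρ := ρ) h2 (l := [a2, a1]) (a := b1) (b := b2) (s := s1 * s2) (by decide +kernel)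
  have w7 : nn ρ [a2, a1, b2, b1] = nn ρ [b2, b1, a2, a1] := nn_eq (by decide +kernel)
  have w8 : nn ρ [a2, a1, s1, b2, b1] = nn ρ [b2, b1, s1, a2, a1] := nn_eq (by decide +kernel)
  have w9 := nn_conj (ρ := ρ) [s1, b2, b1] c1
  have e9 : ([s1, b2, b1].map fun h => c1 * h * c1⁻¹) = [s2, a2, a1] := by decide +kernel
  rw [e9] at w9
  have w10 : nn ρ [b2, b1, s2, s1, a2, a1] ≤ nn ρ [b2, b1, s1 * s2, a2, a1] := nn_le (by decide +kernel)
  omega

end Cfsg.Agent.R2.PX.A
end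

-- part: R2/PX/A/El2
section
/-!
# Pattern X of S5771, Part A: the dimensions of the fixed spaces of some subgroups of `A₈`, part 2 (helper7)

* `goodL`, `anisoL` : anisotropy;
* `dimP` : `(0 1)(3 4)` acts trivially on the fixed space of `⟨(0 1 2), (3 4 5)⟩` for `(56, 32, 24, 20, 20)`;
* `dimE` : the regular group `2³` has no fixed vectors for `(56, 32, 24, 20, 20)`.
-/

set_option autoImplicit false
set_option maxRecDepth 100000

namespace Cfsg.Agent.R2.PX.A

open Equiv Module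

universe u v
variable {K : Type u} [Field K] {M : Type v} [AddCommGroup M] [Module K M]
variable {ρ : Representation K A8 M}

theorem goodL {B : M →ₗ[K] M →ₗ[K] K} (h2 : (2 : K) ≠ 0) (h3 : (3 : K) ≠ 0)
    (hB : ∀ g x y, B (ρ g x) (ρ g y) = B x y) : Good B ρ [s2, b2, b1, s1, a2, a1] :=
  good_three h3 hB (good_two h2 hB (good_two h2 hB (good_three h3 hB (good_two h2 hB (good_two h2 hB good_nil
    (by decide +kernel)) (by decide +kernel)) (by decide +kernel)) (by decide +kernel)) (by decide +kernel))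
    (by decide +kernel)

theorem dimL' [FiniteDimensional K M] (h2 : (2 : K) ≠ 0) (h3 : (3 : K) ≠ 0) (h : Pt ρ 133 69 69 43 43) :
    nn ρ [s2, b2, b1, s1, a2, a1] = 1 := by
  have h1 : nn ρ [s2, b2, b1, s1, a2, a1] = nn ρ [b2, b1, s2, s1, a2, a1] := nn_eq (by decide +kernel)
  rw [h1]
  exact dimL h2 h3 h

/-- `a` preserves `{0, 1, 2, 3}` -/
def P4 (a : A8) : Prop := ∀ i : Fin 8, ((a : Perm (Fin 8)) i).val < 4 ↔ i.val < 4

instance (a : A8) : Decidable (P4 a) := by unfold P4; infer_instance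

theorem p4_a1 : P4 a1 := by decide +kernel
theorem p4_a2 : P4 a2 := by decide +kernel
theorem p4_s1 : P4 s1 := by decide +kernel
theorem p4_b1 : P4 b1 := by decide +kernel
theorem p4_b2 : P4 b2 := by decide +kernel
theorem p4_s2 : P4 s2 := by decide +kernel

/-- **anisotropy** -/
theorem anisoL [FiniteDimensional K M] {B : M →ₗ[K] M →ₗ[K] K} (h2 : (2 : K) ≠ 0) (h3 : (3 : K) ≠ 0)
    (h : Pt ρ 133 69 69 43 43) (hB : ∀ g x y, B (ρ g x) (ρ g y) = B x y) (hnd : ∀ x, (∀ y, B x y = 0) → x = 0)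
    {z : M} (hz : ∀ a : A8, P4 a → ρ a z = z) (h0 : B z z = 0) : z = 0 := by
  refine aniso_of (goodL h2 h3 hB) (dimL' h2 h3 h) hnd ?_ h0
  intro g hg
  simp only [List.mem_cons, List.not_mem_nil, or_false] at hg
  rcases hg with h4 | h4 | h4 | h4 | h4 | h4 <;> rw [h4]
  · exact hz _ p4_s2
  · exact hz _ p4_b2
  · exact hz _ p4_b1
  · exact hz _ p4_s1
  · exact hz _ p4_a2
  · exact hz _ p4_a1

/-- `(0 1)(3 4)` acts trivially on the fixed space of `⟨(0 1 2), (3 4 5)⟩` -/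
theorem dimP [FiniteDimensional K M] (h2 : (2 : K) ≠ 0) (h3 : (3 : K) ≠ 0) (h : Pt ρ 56 32 24 20 20) {v : M}
    (h4 : ρ p1 v = v) (h5 : ρ p2 v = v) : ρ t2 v = v := by
  have h0 : nn ρ [] = 56 := by rw [nn_nil, h.dim]
  have ep1 := h.c3 p1 (by decide +kernel)
  have ep2 := h.c3 p2 (by decide +kernel)
  have ep3 := h.c33 (p1 * p2) (by decide +kernel)
  have ep4 := h.c33 (p1 * p2 * p2) (by decide +kernel)
  have et := h.c2 t2 (by decide +kernel)
  have k1 := n9 (ρ := ρ) h3 (l := []) (a := p1) (b := p2) (by decide +kernel)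
  have k2 := nS3 (ρ := ρ) h2 h3 (l := []) (s := p1) (t := t2) (by decide +kernel)
  have k3 := nS3 (ρ := ρ) h2 h3 (l := [p1]) (s := p2) (t := t2) (by decide +kernel)
  have k4 : nn ρ [t2, p2, p1] = nn ρ [p2, p1] := by omega
  have k5 : FX ρ [t2, p2, p1] = FX ρ [p2, p1] := by
    refine Submodule.eq_of_le_of_finrank_eq (FX_le (by decide +kernel)) k4
  have k6 : v ∈ FX ρ [p2, p1] := by
    intro g hg
    simp only [List.mem_cons, List.not_mem_nil, or_false] at hg
    rcases hg with rfl | rfl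
    · exact h5
    · exact h4
  rw [← k5] at k6
  exact k6 t2 (List.mem_cons_self ..)

/-- the regular group `2³` has no fixed vectors -/
theorem dimE [FiniteDimensional K M] (h2 : (2 : K) ≠ 0) (h : Pt ρ 56 32 24 20 20) {v : M}
    (h4 : ρ e1 v = v) (h5 : ρ e2 v = v) (h6 : ρ c1 v = v) : v = 0 := by
  have h0 : nn ρ [] = 56 := by rw [nn_nil, h.dim]
  have x1 := h.c24 e1 (by decide +kernel)
  have x2 := h.c24 e2 (by decide +kernel)
  have x3 := h.c24 c1 (by decide +kernel)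
  have x4 := h.c24 (e1 * e2) (by decide +kernel)
  have x5 := h.c24 (e1 * c1) (by decide +kernel)
  have x6 := h.c24 (e2 * c1) (by decide +kernel)
  have x7 := h.c24 (e1 * (e2 * c1)) (by decide +kernel)
  have k1 := n4 (ρ := ρ) h2 (l := []) (a := e1) (b := e2) (by decide +kernel)
  have k2 := n4 (ρ := ρ) h2 (l := []) (a := e1) (b := c1) (by decide +kernel)
  have k3 := n4 (ρ := ρ) h2 (l := []) (a := e1) (b := e2 * c1) (by decide +kernel)
  have k4 := n4 (ρ := ρ) h2 (l := [e1]) (a := e2) (b := c1) (by decide +kernel)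
  have k5 : nn ρ [c1, e2, e1] = 0 := by omega
  have k6 : v ∈ FX ρ [c1, e2, e1] := by
    intro g hg
    simp only [List.mem_cons, List.not_mem_nil, or_false] at hg
    rcases hg with rfl | rfl | rfl
    · exact h6
    · exact h5
    · exact h4
  rw [Submodule.finrank_eq_zero.1 k5] at k6
  exact k6

end Cfsg.Agent.R2.PX.A
end
end
end
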