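import Cfsg.Agent.R2.T1.Odd.Nrm
import Cfsg.Agent.R2.T1.Odd.T9
import Cfsg.Agent.ChevFast.E7
import Cfsg.Agent.R2.T1.E5.Count_m3
import Cfsg.Agent.R2.T1.P3.Q3
import Cfsg.Agent.H952.F4.Scott_m3
import Cfsg.Agent.R2.T1.Five.Lin_m3
import Mathlib
import Cfsg.Agent.R2.PX.Conf_m3
import Cfsg.Agent.R2.PX.Del_m3
import Cfsg.Agent.R2.PX.W.Cl_m3
import Cfsg.Agent.R2.T1.Pat2.ChkA
import Cfsg.Agent.R2.T1.Pat2.ChkB
import Cfsg.Agent.R2.T1.Odd.El
import Cfsg.Agent.R2.T1.Pat2.ChkC
import Cfsg.Agent.FastGrp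
import Cfsg.Agent.Prune
set_option linter.all false

section
prune_inst 0x7fffb9fd3bbcefffffff7e7ffed6fffdfbbb9fffa4def9cbffe061ff0b9f138a89c5fb858be010fe1ef6c21c10a87843fb7eefffea6bdc7ffffd5ff41ffbee5fe5feb50871948c340fba6ff783f0778e7f3fffffffffffffffffffffffffffbeffbfffffffff

-- part: R2/T1/Pat2/Diag2_mg
section
prune_inst 0x4602444300000000018000210002000420004b000600000c8000a040ec1056020012141a6800000121204c50031000811000000420000000a00000001180080000040048308a104400081800080000000000000000000000000000000000000000000000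
set_option linter.all false
open scoped Cfsg.Agent.FastGrp

-- part: R2/T1/Pat2/Diag2
section
/-!
# T1, PAT2 (helper26): the centralizer of an element of order 3 in characteristic 2

* `exists_Phi2` : an element commuting with `λ(ζ)` which acts trivially on the fixed points of `λ(ζ)` on the adjoint
  module is in the torus;
* `comm2` : the centralizer of `λ(ζ)` centralizes `λ(μ)`.
-/

set_option autoImplicit false
set_option maxRecDepth 100000

namespace Cfsg.Agent.R2.T1.Pat2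

open Cfsg Cfsg.Lie Module
open scoped Matrix
open Cfsg.Agent.ChevalleyStructure Cfsg.Agent.ChevalleyStructure.Elts Cfsg.Agent.ChevalleyStructure.RootVec
  Cfsg.Agent.ChevalleyStructure.RootVecTab Cfsg.Agent.ChevalleyStructure.CoxeterGeomTypes
open Cfsg.Agent.ChevalleyStructure.StBasic Cfsg.Agent.ChevalleyStructure.StTheta Cfsg.Agent.H129.StCover
open Cfsg.Agent.ChevalleyStructure.LieAbs Cfsg.Agent.ChevalleyStructure.LieAut Cfsg.Agent.ChevalleyStructure.JacMain
open Cfsg.Agent.ChevalleyStructure.JacAll Cfsg.Agent.ChevalleyStructure.Ring Cfsg.Agent.ChevalleyStructure.Columns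
open Cfsg.Agent.KFacts.RgdChevCoord
open Cfsg.Agent.H943.E7V.Block (D1 rho)
open Cfsg.Agent.H944.Kac Cfsg.Agent.H944.Tab Cfsg.Agent.H944.E7Two
open Cfsg.Agent.H952.F4 (ev es)
open Cfsg.Agent.R2.T1

universe u

variable {K : Type u} [Field K]

/-- the parities of the values of the simple coroots -/
def code2 (r : ℕ) : List ℕ := (List.range 7).map fun j => ((car chevE7 j r) % 2).toNat


private def c15 (r : ℕ) : List ℕ :=
  (List.range 7).map fun j => (Cfsg.Agent.ChevFast.gz 504 Cfsg.Agent.ChevFast.E7.tA j r % 2).toNat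

private theorem e15 : code2 = c15 := funext fun r => congrArg (fun f => (List.range 7).map f)
  (funext fun j => congrArg (fun z : ℤ => (z % 2).toNat) (Cfsg.Agent.ChevFast.E7.cartanR j r))

private def n15 (r : ℕ) : ℕ := (c15 r).foldr (fun a b => a + 2 * b) 0

theorem code2_all : ((List.range 126).all fun r => (List.range 126).all fun s =>
    !(code2 r == code2 s) || (Nat.beq s r || Nat.beq (s + r) 125)) = true := by
  have h1 : ((List.range 63).map n15).Nodup := by decide +kernel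
  have h2 : ∀ r ∈ List.range 63, Nat.rec (motive := fun _ => ℕ) 0 (fun m _ => n15 m) (Nat.succ (125 - r)) = n15 r := by
    decide +kernel
  have h3 : ∀ r < 126, ∃ m < 63, n15 m = n15 r ∧ (m = r ∨ m + r = 125) := fun r hr => by
    rcases Nat.lt_or_ge r 63 with h | h
    · exact ⟨r, h, rfl, Or.inl rfl⟩
    · refine ⟨125 - r, by omega, ?_, Or.inr (by omega)⟩
      have h4 : n15 (125 - (125 - r)) = n15 (125 - r) := h2 (125 - r) (List.mem_range.2 (by omega))
      rewrite [show 125 - (125 - r) = r by omega] at h4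
      exact h4.symm
  rewrite [e15]
  refine List.all_eq_true.2 fun r hr => List.all_eq_true.2 fun s hs => ?_
  cases e : (c15 r == c15 s)
  · rfl
  · have e1 : n15 r = n15 s := congrArg (List.foldr (fun a b => a + 2 * b) 0) (eq_of_beq e)
    obtain ⟨m, hm, a, b⟩ := h3 r (List.mem_range.1 hr)
    obtain ⟨m', hm', a', b'⟩ := h3 s (List.mem_range.1 hs)
    have h4 := List.inj_on_of_nodup_map h1 (List.mem_range.2 hm) (List.mem_range.2 hm') (a.trans (e1.trans a'.symm))
    have k : s = r ∨ s + r = 125 := by clear * - h4 b b'; omega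
    rcases k with k | k
    · rewrite [k, Nat.beq_refl]
      rfl
    · rewrite [k]
      cases Nat.beq s r <;> rfl

theorem code2_pos : ((List.range 126).all fun r => !(code2 r == List.replicate 7 0)) = true := by
  rewrite [e15]
  decide +kernel

theorem odd_cast (h2 : (2 : K) = 0) {m : ℤ} (h : m % 2 ≠ 0) : (m : K) = 1 := by
  have h1 : m = 2 * (m / 2) + 1 := by omega
  rw [h1]
  push_cast
  rw [h2]
  ring

theorem sep2 (h2 : (2 : K) = 0) {r s : ℕ} (hr : r < 126) (hs : s < 126) (h : s ≠ r) (h' : s + r ≠ 125) :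
    ∃ j < 7, ((car chevE7 j r : ℤ) : K) ≠ ((car chevE7 j s : ℤ) : K) := by
  by_contra hne
  push Not at hne
  have h1 := List.all_eq_true.1 (List.all_eq_true.1 code2_all r (List.mem_range.2 hr)) s (List.mem_range.2 hs)
  have h3 : code2 r = code2 s := by
    unfold code2
    refine List.map_congr_left fun j hj => ?_
    have h4 := hne j (List.mem_range.1 hj)
    by_contra h5
    have h6 : (car chevE7 j r - car chevE7 j s) % 2 ≠ 0 := fun h7 => h5 (by
      have : car chevE7 j r % 2 = car chevE7 j s % 2 := by omega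
      rw [this])
    have h7 := odd_cast h2 h6
    push_cast at h7
    rw [h4, sub_self] at h7
    exact zero_ne_one h7
  rw [h3] at h1
  simp only [beq_self_eq_true, Bool.not_true, Bool.false_or, Bool.or_eq_true] at h1
  rcases h1 with h1 | h1
  · exact h (Nat.eq_of_beq_eq_true h1)
  · exact h' (Nat.eq_of_beq_eq_true h1)

theorem sep20 (h2 : (2 : K) = 0) {r : ℕ} (hr : r < 126) : ∃ j < 7, ((car chevE7 j r : ℤ) : K) ≠ 0 := by
  by_contra hne
  push Not at hne
  have h1 := List.all_eq_true.1 code2_pos r (List.mem_range.2 hr)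
  have h3 : code2 r = List.replicate 7 0 := by
    have h4 : List.replicate 7 0 = (List.range 7).map fun _ => 0 := by decide
    rw [h4]
    unfold code2
    refine List.map_congr_left fun j hj => ?_
    have h4 := hne j (List.mem_range.1 hj)
    by_contra h5
    have h6 : (car chevE7 j r) % 2 ≠ 0 := fun h7 => h5 (by rw [h7]; rfl)
    have h7 := odd_cast h2 h6
    rw [h4] at h7
    exact zero_ne_one h7
  rw [h3] at h1
  simp at h1

variable {l : Fin chevE7.rank → ℤ} {j0 : ℕ} {d c0 χ₁ χ₂ : ℤ}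

theorem rt_neg {r s : ℕ} (h : s + r = 125) {j : ℕ} (hj : j < 7) : rt chevE7 s j = - rt chevE7 r j := by
  have key : ((List.range 126).all fun r => (List.range 7).all fun j =>
      decide (rt chevE7 (125 - r) j = - rt chevE7 r j)) = true := by decide +kernel
  have h1 := List.all_eq_true.1 (List.all_eq_true.1 key r (List.mem_range.2 (by omega))) j (List.mem_range.2 hj)
  rw [decide_eq_true_eq] at h1
  have h2 : s = 125 - r := by omega
  rw [h2, h1]

/-- an element commuting with `λ(ζ)`, trivial on its fixed points, is in the torus -/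
theorem exists_Phi2 (h2 : (2 : K) = 0) (hT : TL l j0 d c0 χ₁ χ₂) {ζ : Kˣ} (hζ : IsPrimitiveRoot ζ 3) {τ : Gh K}
    (hc : τ * Phi K (R2.T1.lam l ζ) = Phi K (R2.T1.lam l ζ) * τ)
    (hfix : ∀ X, L K (Phi K (R2.T1.lam l ζ)) X = X → L K τ X = X) : ∃ t, Phi K t = τ := by
  set g : GL chevE7.Idx K := ((ad K τ : ↥(chevE7.group K)) : GL chevE7.Idx K) with hg
  have hgm : g ∈ chevE7.group K := (ad K τ).2
  have hLg : ∀ X, L K τ X = (g : Matrix chevE7.Idx chevE7.Idx K) *ᵥ X := fun X => by rw [L_eq, LK_apply]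
  have hinl : ∀ i : Fin chevE7.rank, (g : Matrix chevE7.Idx chevE7.Idx K) *ᵥ Pi.single (Sum.inl i) 1 =
      Pi.single (Sum.inl i) 1 := by
    intro i
    rw [← hLg]
    apply hfix
    funext j
    rw [L_Phi_apply]
    by_cases hj : j = Sum.inl i
    · rw [hj]
      exact one_mul _
    · rw [Pi.single_eq_of_ne hj, mul_zero]
  have hinr : ∀ s : Fin chevE7.nroots, rt chevE7 s j0 = 0 →
      (g : Matrix chevE7.Idx chevE7.Idx K) *ᵥ Pi.single (Sum.inr s) 1 = Pi.single (Sum.inr s) 1 := by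
    intro s hs
    rw [← hLg]
    apply hfix
    funext j
    rw [L_Phi_apply]
    by_cases hj : j = Sum.inr s
    · rw [hj]
      show ((rtv s (R2.T1.lam l ζ) : Kˣ) : K) * _ = _
      rw [hT.rtv_lam s.2, hs, mul_zero, zpow_zero, Units.val_one, one_mul]
    · rw [Pi.single_eq_of_ne hj, mul_zero]
  have key : ∀ (i : Fin chevE7.rank) (a b : chevE7.Idx), (g : Matrix chevE7.Idx chevE7.Idx K) a b *
      Sum.elim (fun _ => (0 : K)) (fun s : Fin chevE7.nroots => ((car chevE7 i s.val : ℤ) : K)) b =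
      Sum.elim (fun _ => (0 : K)) (fun s : Fin chevE7.nroots => ((car chevE7 i s.val : ℤ) : K)) a *
      (g : Matrix chevE7.Idx chevE7.Idx K) a b := by
    intro i a b
    have h1 := group_mul_adv chevE7 Five.inl7 K g hgm (Pi.single (Sum.inl i) 1)
    rw [hinl i, adv_single_one] at h1
    have h3 := congrFun (congrFun h1 a) b
    rw [Matrix.mul_apply, Matrix.mul_apply, Finset.sum_eq_single b, Finset.sum_eq_single a] at h3
    · rw [Five.adR_inl_apply, Five.adR_inl_apply, if_pos rfl, if_pos rfl] at h3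
      exact h3
    · intro c _ hc
      rw [Five.adR_inl_apply, if_neg (Ne.symm hc), zero_mul]
    · intro hc; exact absurd (Finset.mem_univ _) hc
    · intro c _ hc
      rw [Five.adR_inl_apply, if_neg hc, mul_zero]
    · intro hc; exact absurd (Finset.mem_univ _) hc
  have hcm : ∀ r s : Fin chevE7.nroots, (g : Matrix chevE7.Idx chevE7.Idx K) (Sum.inr r) (Sum.inr s) *
      ((rtv s (R2.T1.lam l ζ) : Kˣ) : K) = ((rtv r (R2.T1.lam l ζ) : Kˣ) : K) *
      (g : Matrix chevE7.Idx chevE7.Idx K) (Sum.inr r) (Sum.inr s) := by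
    intro r s
    have h1 : (g : Matrix chevE7.Idx chevE7.Idx K) * Five.dgL K (R2.T1.lam l ζ) =
        Five.dgL K (R2.T1.lam l ζ) * (g : Matrix chevE7.Idx chevE7.Idx K) := by
      rw [← Five.ad_Phi, ← Units.val_mul, ← Units.val_mul, hg, ← Subgroup.coe_mul, ← Subgroup.coe_mul, ← map_mul,
        ← map_mul, hc]
    have h3 := congrFun (congrFun h1 (Sum.inr r)) (Sum.inr s)
    have h4 : Five.dgL K (R2.T1.lam l ζ) = Matrix.diagonal (Sum.elim (fun _ => (1 : K))
      fun s : Fin chevE7.nroots => ((rtv s (R2.T1.lam l ζ) : Kˣ) : K)) := rfl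
    rw [h4, Matrix.mul_diagonal, Matrix.diagonal_mul] at h3
    exact h3
  have hcol : ∀ (a : chevE7.Idx) (b : chevE7.Idx), (g : Matrix chevE7.Idx chevE7.Idx K) *ᵥ Pi.single b 1 =
      Pi.single b 1 → (g : Matrix chevE7.Idx chevE7.Idx K) a b = if a = b then 1 else 0 := by
    intro a b h
    have h1 := congrFun h a
    rw [Matrix.mulVec_single_one, Matrix.col_apply] at h1
    rw [h1, Pi.single_apply]
  have hdiag : (g : Matrix chevE7.Idx chevE7.Idx K) = Matrix.diagonal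
      (Sum.elim (fun _ => (1 : K)) fun s : Fin chevE7.nroots =>
        (g : Matrix chevE7.Idx chevE7.Idx K) (Sum.inr s) (Sum.inr s)) := by
    ext a b
    rw [Matrix.diagonal_apply]
    rcases b with i | s
    · rw [hcol _ _ (hinl i)]
      split_ifs with h3
      · rw [h3]; rfl
      · rfl
    · by_cases hs0 : rt chevE7 s j0 = 0
      · rw [hcol _ _ (hinr s hs0)]
        split_ifs with h3
        · rw [h3, Sum.elim_inr, hcol _ _ (hinr s hs0), if_pos rfl]
        · rfl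
      · rcases a with i | r
        · rw [if_neg (by simp)]
          obtain ⟨j, hj, hne⟩ := sep20 (K := K) h2 s.2
          have h3 := key ⟨j, hj⟩ (Sum.inl i) (Sum.inr s)
          simp only [Sum.elim_inl, Sum.elim_inr, zero_mul] at h3
          exact (mul_eq_zero.1 h3).resolve_right hne
        · split_ifs with h3
          · rw [Sum.inr.inj h3]; rfl
          · have hrs : (r : ℕ) ≠ s := fun e => h3 (congrArg Sum.inr (Fin.ext e))
            by_cases h125 : (r : ℕ) + s = 125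
            · by_contra h0
              have h5 := hcm r s
              rw [hT.rtv_lam r.2, hT.rtv_lam s.2, rt_neg h125 hT.lt, mul_comm] at h5
              have h6 := Units.ext (mul_right_cancel₀ h0 h5)
              have h7 : ζ ^ (d * rt chevE7 s j0 - d * -rt chevE7 s j0) = 1 := by
                rw [zpow_sub, h6, mul_inv_cancel]
              rw [hζ.zpow_eq_one_iff_dvd] at h7
              exact hs0 (hT.mod' s.2 (by
                have h8 : d * rt chevE7 s j0 - d * -rt chevE7 s j0 = 2 * (d * rt chevE7 s j0) := by ring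
                rw [h8] at h7
                omega))
            · obtain ⟨j, hj, hne⟩ := sep2 (K := K) h2 s.2 r.2 hrs h125
              have h4 := key ⟨j, hj⟩ (Sum.inr r) (Sum.inr s)
              simp only [Sum.elim_inr] at h4
              have h5 : (g : Matrix chevE7.Idx chevE7.Idx K) (Sum.inr r) (Sum.inr s) *
                  (((car chevE7 j s : ℤ) : K) - ((car chevE7 j r : ℤ) : K)) = 0 := by linear_combination h4
              exact (mul_eq_zero.1 h5).resolve_right (sub_ne_zero.2 hne)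
  have h3 : ad K τ ∈ TT chevE7 K := Five.mem_diag hgm hdiag
  obtain ⟨a, ha⟩ := exists_theta_phi isPhi Cfsg.Agent.H944.E7Two.e7T h3
  have h4 : (Phi K a)⁻¹ * τ ∈ (ad K).ker := by
    rw [MonoidHom.mem_ker, map_mul, map_inv]
    have h5 : ad K (Phi K a) = ad K τ := ha
    rw [h5, inv_mul_cancel]
  rw [ker_ad] at h4
  obtain ⟨b, hb⟩ := isPhi.center_le h4
  exact ⟨a * b, by rw [map_mul, hb, mul_inv_cancel_left]⟩

/-- **the centralizer of `λ(ζ)` centralizes `λ(μ)`**, characteristic 2 -/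
theorem comm2 (h2 : (2 : K) = 0) (hT : TL l j0 d c0 χ₁ χ₂) (hd : d ≠ 0) {ζ : Kˣ} (hζ : IsPrimitiveRoot ζ 3)
    {h : Gh K} (hh : h * Phi K (R2.T1.lam l ζ) = Phi K (R2.T1.lam l ζ) * h) (μ : Kˣ) :
    h * Phi K (R2.T1.lam l μ) = Phi K (R2.T1.lam l μ) * h := by
  have hh' : h * Phi K (R2.T1.lam l ζ) * h⁻¹ = Phi K (R2.T1.lam l ζ) ^ (1 : ℤ) := by
    rw [hh, mul_inv_cancel_right, zpow_one]
  -- the fixed points
  have hfix : ∀ X, L K (Phi K (R2.T1.lam l ζ)) X = X → L K (h * Phi K (R2.T1.lam l μ) * h⁻¹) X = X := by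
    intro X hX
    have h1 : L K (Phi K (R2.T1.lam l ζ)) (L K h⁻¹ X) = L K h⁻¹ X := by
      have h3 : Phi K (R2.T1.lam l ζ) * h⁻¹ = h⁻¹ * Phi K (R2.T1.lam l ζ) := by
        have h4 : h⁻¹ * (h * Phi K (R2.T1.lam l ζ)) * h⁻¹ = h⁻¹ * (Phi K (R2.T1.lam l ζ) * h) * h⁻¹ := by rw [hh]
        have h5 : h⁻¹ * (h * Phi K (R2.T1.lam l ζ)) * h⁻¹ = Phi K (R2.T1.lam l ζ) * h⁻¹ := by group
        have h6 : h⁻¹ * (Phi K (R2.T1.lam l ζ) * h) * h⁻¹ = h⁻¹ * Phi K (R2.T1.lam l ζ) := by group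
        rw [h5, h6] at h4
        exact h4
      rw [← Module.End.mul_apply, ← map_mul, h3, map_mul, Module.End.mul_apply, hX]
    rw [map_mul, map_mul, Module.End.mul_apply, Module.End.mul_apply, hT.fix hζ h1 μ, ← Module.End.mul_apply,
      ← map_mul, mul_inv_cancel, map_one, Module.End.one_apply]
  have hcc : (h * Phi K (R2.T1.lam l μ) * h⁻¹) * Phi K (R2.T1.lam l ζ) =
      Phi K (R2.T1.lam l ζ) * (h * Phi K (R2.T1.lam l μ) * h⁻¹) := by
    have e1 : Phi K (R2.T1.lam l ζ) = h * Phi K (R2.T1.lam l ζ) * h⁻¹ := by rw [hh', zpow_one]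
    have e2 : Phi K (R2.T1.lam l μ) * Phi K (R2.T1.lam l ζ) = Phi K (R2.T1.lam l ζ) * Phi K (R2.T1.lam l μ) := by
      rw [← map_mul, ← map_mul, mul_comm]
    calc (h * Phi K (R2.T1.lam l μ) * h⁻¹) * Phi K (R2.T1.lam l ζ)
        = (h * Phi K (R2.T1.lam l μ) * h⁻¹) * (h * Phi K (R2.T1.lam l ζ) * h⁻¹) := by rw [← e1]
      _ = h * (Phi K (R2.T1.lam l μ) * Phi K (R2.T1.lam l ζ)) * h⁻¹ := by group
      _ = h * (Phi K (R2.T1.lam l ζ) * Phi K (R2.T1.lam l μ)) * h⁻¹ := by rw [e2]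
      _ = (h * Phi K (R2.T1.lam l ζ) * h⁻¹) * (h * Phi K (R2.T1.lam l μ) * h⁻¹) := by group
      _ = _ := by rw [← e1]
  obtain ⟨t, ht⟩ := exists_Phi2 h2 hT hζ hcc hfix
  have hs : ∀ i < 7, i ≠ j0 → rtv (chevE7.simple i) t = 1 := by
    intro i hi hij
    have hlt : chevE7.simple i < chevE7.nroots := simple_lt7 i hi
    have hX : L K (Phi K (R2.T1.lam l ζ)) (Pi.single (Sum.inr ⟨chevE7.simple i, hlt⟩) 1) =
        Pi.single (Sum.inr ⟨chevE7.simple i, hlt⟩) 1 := by
      funext j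
      rw [L_Phi_apply]
      by_cases hj : j = Sum.inr ⟨chevE7.simple i, hlt⟩
      · rw [hj]
        show ((rtv (chevE7.simple i) (R2.T1.lam l ζ) : Kˣ) : K) * _ = _
        rw [R2.T1.rtv_lam, hT.simple i hi, if_neg hij, zpow_zero, Units.val_one, one_mul]
      · rw [Pi.single_eq_of_ne hj, mul_zero]
    have h1 := congrFun (hfix _ hX) (Sum.inr ⟨chevE7.simple i, hlt⟩)
    rw [← ht, L_Phi_apply, Pi.single_eq_same, mul_one] at h1
    exact Units.ext h1
  obtain ⟨s1, e1, f1⟩ := hT.dom hζ (Or.inl rfl) hh' ht (hT.dom₁ 1 (Or.inl rfl))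
  obtain ⟨s2, e2, f2⟩ := hT.dom hζ (Or.inl rfl) hh' ht (hT.dom₂ 1 (Or.inl rfl))
  rw [one_mul] at e1 e2
  set τ := wt botv t with hτ
  set ν := rtv (chevE7.simple j0) t with hν
  rw [wt_one hT.lt hs, ← hτ, ← hν] at f1 f2
  have hdiff := hT.diff
  have hκ : rt chevE8 (nn s1) j0 - rt chevE8 (nn s2) j0 = 1 := by
    have h3 : d * (rt chevE8 (nn s1) j0 - rt chevE8 (nn s2) j0) = d * 1 := by
      rw [mul_sub, mul_one]
      have : d * rt chevE8 (nn s1) j0 - d * rt chevE8 (nn s2) j0 = χ₁ - χ₂ := by rw [← e1, ← e2]; ring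
      rw [this, hdiff]
    exact mul_left_cancel₀ hd h3
  have hν' : ν = μ ^ d := by
    have h3 : ν = ν ^ rt chevE8 (nn s1) j0 * (ν ^ rt chevE8 (nn s2) j0)⁻¹ := by
      rw [← zpow_neg, ← zpow_add, ← sub_eq_add_neg, hκ, zpow_one]
    have h4 : μ ^ d = μ ^ χ₁ * (μ ^ χ₂)⁻¹ := by
      rw [← zpow_neg, ← zpow_add, ← hdiff, sub_eq_add_neg]
    rw [h3, h4, ← f1, ← f2]
    rw [mul_inv, mul_mul_mul_comm, mul_inv_cancel, one_mul]
  have hτ' : τ = μ ^ c0 := by
    have h3 : τ = μ ^ χ₂ * (ν ^ rt chevE8 (nn s2) j0)⁻¹ := by rw [← f2, mul_assoc, mul_inv_cancel, mul_one]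
    rw [h3, hν', ← zpow_mul, ← zpow_neg, ← zpow_add]
    congr 1
    rw [← e2]
    ring
  have hfin : Phi K t = Phi K (R2.T1.lam l μ) := by
    apply rho_injective
    rw [rho_Phi, rho_Phi]
    refine congrArg Matrix.diagonal (funext fun s => ?_)
    rw [hT.wt_lam, wt_one hT.lt hs, ← hτ, ← hν, hτ', hν', ← zpow_mul, ← zpow_add]
  rw [hfin] at ht
  have h9 : Phi K (R2.T1.lam l μ) * h = h * Phi K (R2.T1.lam l μ) * h⁻¹ * h := by rw [← ht]
  rw [h9]
  group

end Cfsg.Agent.R2.T1.Pat2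
end

-- part: R2/T1/Pat2/Grp
section
/-!
# T1, PAT2 (helper26): multiplicities of operators which are functions of a diagonalizable operator

* `ev_grp` : `ev T θ = Σ_{k < N, τ k = θ} ev Z (η ^ k)` if `T` acts as `τ k` on the `η ^ k`-eigenspace of `Z`;
* `ev_grp_V`, `ev_grp_L`.
-/

set_option autoImplicit false
set_option maxRecDepth 100000

namespace Cfsg.Agent.R2.T1.Pat2

open Cfsg Cfsg.Lie Module
open Cfsg.Agent.H943.E7V.Block (D1 rho)
open Cfsg.Agent.H952.F4 (ev es)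
open Cfsg.Agent.H944.E6T (ev_conj trace_conj)

universe u

section lin

variable {K : Type u} {ι : Type*} [Field K] [Fintype ι] [DecidableEq ι]

open Classical in
/-- **grouping of eigenvalues** -/
theorem ev_grp {N : ℕ} (hN : 0 < N) {η : K} (hη : IsPrimitiveRoot η N) {d : ι → K} (hd : ∀ i, d i ^ N = 1)
    {Z T : Module.End K (ι → K)} (hZ : Z = Matrix.toLin' (Matrix.diagonal d)) (τ : ℕ → K)
    (h : ∀ k < N, ∀ v, Z v = η ^ k • v → T v = τ k • v) (θ : K) :
    ev T θ = ∑ k ∈ Finset.range N, if τ k = θ then ev Z (η ^ k) else 0 := by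
  have : NeZero N := ⟨hN.ne'⟩
  have hex : ∀ i, ∃ k < N, η ^ k = d i := fun i => hη.eq_pow_of_pow_eq_one (hd i)
  choose κ hκ1 hκ2 using hex
  have hT : T = Matrix.toLin' (Matrix.diagonal fun i => τ (κ i)) := by
    refine LinearMap.pi_ext' fun i => LinearMap.ext_ring ?_
    have h1 : Z (Pi.single i 1) = η ^ κ i • (Pi.single i (1 : K) : ι → K) := by
      rw [hZ, Matrix.toLin'_apply]
      funext j
      rw [Matrix.mulVec_diagonal, Pi.smul_apply, smul_eq_mul]
      by_cases hj : j = i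
      · rw [hj, hκ2]
      · rw [Pi.single_eq_of_ne hj, mul_zero, mul_zero]
    have h2 := h (κ i) (hκ1 i) _ h1
    rw [LinearMap.comp_apply, LinearMap.comp_apply, LinearMap.single_apply, h2, Matrix.toLin'_apply]
    funext j
    rw [Matrix.mulVec_diagonal, Pi.smul_apply, smul_eq_mul]
    by_cases hj : j = i
    · rw [hj]
    · rw [Pi.single_eq_of_ne hj, mul_zero, mul_zero]
  rw [Cfsg.Agent.H944.E6T.ev_diag _ θ hT,
    Finset.card_eq_sum_card_fiberwise (f := κ) (t := Finset.range N) (fun i _ => by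
      simpa using hκ1 i)]
  refine Finset.sum_congr rfl fun k hk => ?_
  rw [Finset.filter_filter]
  split_ifs with h1
  · rw [Cfsg.Agent.H944.E6T.ev_diag _ (η ^ k) hZ]
    congr 1
    ext i
    simp only [Finset.mem_filter, Finset.mem_univ, true_and]
    constructor
    · rintro ⟨-, rfl⟩
      exact (hκ2 i).symm
    · intro h2
      have h3 : κ i = k := hη.pow_inj (hκ1 i) (Finset.mem_range.1 hk) ((hκ2 i).trans h2)
      exact ⟨by rw [h3, h1], h3⟩
  · rw [Finset.card_eq_zero, Finset.filter_eq_empty_iff]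
    rintro i - ⟨h2, rfl⟩
    exact h1 h2

end lin

section
variable {K : Type u} [Field K]

open Classical in
theorem ev_grp_V {N : ℕ} (hN : 0 < N) {η : K} (hη : IsPrimitiveRoot η N) {z t : Gh K}
    (hz : ∃ (g : Gh K) (c : Fin chevE7.rank → Kˣ), Phi K c = g * z * g⁻¹ ∧ c ^ N = 1) (τ : ℕ → K)
    (h : ∀ k < N, ∀ v, V K z v = η ^ k • v → V K t v = τ k • v) (θ : K) :
    ev (V K t) θ = ∑ k ∈ Finset.range N, if τ k = θ then ev (V K z) (η ^ k) else 0 := by
  obtain ⟨g, c, h1, h2⟩ := hz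
  have h3 : ∀ k < N, ∀ v, V K (Phi K c) v = η ^ k • v → V K (g * t * g⁻¹) v = τ k • v := by
    intro k hk v hv
    have h4 : V K z (V K g⁻¹ v) = η ^ k • V K g⁻¹ v := by
      have h5 : z * g⁻¹ = g⁻¹ * Phi K c := by rw [h1]; group
      rw [← Module.End.mul_apply, ← map_mul, h5, map_mul, Module.End.mul_apply, hv, map_smul]
    have h5 := h k hk _ h4
    rw [map_mul, map_mul, Module.End.mul_apply, Module.End.mul_apply, h5, map_smul, ← Module.End.mul_apply,
      ← map_mul, mul_inv_cancel, map_one, Module.End.one_apply]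
  have h6 := ev_grp hN hη (d := dV c) (fun s => by
    show ((wt s c : Kˣ) : K) ^ N = 1
    rw [← Units.val_pow_eq_pow_val, wt_pow_one h2, Units.val_one]) (V_Phi c) τ h3 θ
  rw [ev_conj] at h6
  rw [h6]
  refine Finset.sum_congr rfl fun k _ => ?_
  rw [ev_V_of_conj h1]

theorem rtv_pow_one {N : ℕ} {c : Fin chevE7.rank → Kˣ} (h : c ^ N = 1) (r : ℕ) : rtv r c ^ N = 1 := by
  unfold rtv
  rw [← Finset.prod_pow]
  refine Finset.prod_eq_one fun i _ => ?_
  rw [← zpow_natCast, ← zpow_mul, mul_comm, zpow_mul, zpow_natCast]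
  have h4 : c i ^ N = 1 := congrFun h i
  rw [h4, one_zpow]

open Classical in
theorem ev_grp_L {N : ℕ} (hN : 0 < N) {η : K} (hη : IsPrimitiveRoot η N) {z t : Gh K}
    (hz : ∃ (g : Gh K) (c : Fin chevE7.rank → Kˣ), Phi K c = g * z * g⁻¹ ∧ c ^ N = 1) (τ : ℕ → K)
    (h : ∀ k < N, ∀ v, L K z v = η ^ k • v → L K t v = τ k • v) (θ : K) :
    ev (L K t) θ = ∑ k ∈ Finset.range N, if τ k = θ then ev (L K z) (η ^ k) else 0 := by
  obtain ⟨g, c, h1, h2⟩ := hz
  have h3 : ∀ k < N, ∀ v, L K (Phi K c) v = η ^ k • v → L K (g * t * g⁻¹) v = τ k • v := by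
    intro k hk v hv
    have h4 : L K z (L K g⁻¹ v) = η ^ k • L K g⁻¹ v := by
      have h5 : z * g⁻¹ = g⁻¹ * Phi K c := by rw [h1]; group
      rw [← Module.End.mul_apply, ← map_mul, h5, map_mul, Module.End.mul_apply, hv, map_smul]
    have h5 := h k hk _ h4
    rw [map_mul, map_mul, Module.End.mul_apply, Module.End.mul_apply, h5, map_smul, ← Module.End.mul_apply,
      ← map_mul, mul_inv_cancel, map_one, Module.End.one_apply]
  have h6 := ev_grp hN hη (d := dL c) (fun s => by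
    rcases s with i | s
    · exact one_pow N
    · show ((rtv s c : Kˣ) : K) ^ N = 1
      rw [← Units.val_pow_eq_pow_val, rtv_pow_one h2, Units.val_one]) (L_Phi c) τ h3 θ
  rw [ev_conj] at h6
  rw [h6]
  refine Finset.sum_congr rfl fun k _ => ?_
  rw [ev_L_of_conj h1]

end

end Cfsg.Agent.R2.T1.Pat2
end
end

-- part: R2/T1/E5/Six
section
prune_inst 0x4602804310000000800001090002044460000821020400088e00f460ec1054280428040beb00410108e0c9478380048100000000000000000000c00011801a010851004b018ac00500001000000000000000000000000000000000000000004000000000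
set_option linter.all false
open scoped Cfsg.Agent.FastGrp

/-!
# S5771, n = 8, p = 5: elements of order 6 (helper24)

* `T6`, `chk6` : the patterns of the elements of order dividing 6;
* `six` : the fixed spaces of `u`, `u²`, `u³`.
-/

set_option autoImplicit false
set_option maxRecDepth 100000

namespace Cfsg.Agent.R2.T1.E5

open Cfsg Cfsg.Lie Module Polynomial
open Cfsg.Agent.H943.E7V.Block (D1 rho)
open Cfsg.Agent.H952.F4 (ev es)
open Cfsg.Agent.R2.T1

universe u v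

/-- the patterns of the elements of order dividing 6 -/
def T6 : List (List ℕ × List ℕ) :=
  [([56, 0, 0, 0, 0, 0], [133, 0, 0, 0, 0, 0]),
   ([32, 12, 0, 0, 0, 12], [67, 32, 1, 0, 1, 32]),
   ([32, 0, 12, 0, 12, 0], [67, 0, 33, 0, 33, 0]),
   ([32, 0, 0, 24, 0, 0], [69, 0, 0, 64, 0, 0]),
   ([24, 0, 0, 32, 0, 0], [69, 0, 0, 64, 0, 0]),
   ([20, 16, 2, 0, 2, 16], [49, 32, 10, 0, 10, 32]),
   ([20, 12, 6, 0, 6, 12], [39, 30, 15, 4, 15, 30]),
   ([20, 6, 6, 12, 6, 6], [37, 17, 16, 30, 16, 17]),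
   ([20, 0, 18, 0, 18, 0], [49, 0, 42, 0, 42, 0]),
   ([20, 0, 18, 0, 18, 0], [43, 0, 45, 0, 45, 0]),
   ([16, 10, 8, 4, 8, 10], [33, 24, 18, 16, 18, 24]),
   ([16, 8, 4, 16, 4, 8], [35, 16, 17, 32, 17, 16]),
   ([16, 4, 8, 16, 8, 4], [35, 16, 17, 32, 17, 16]),
   ([14, 0, 21, 0, 21, 0], [49, 0, 42, 0, 42, 0]),
   ([12, 15, 6, 2, 6, 15], [37, 26, 16, 12, 16, 26]),
   ([12, 12, 6, 8, 6, 12], [27, 24, 21, 16, 21, 24]),
   ([12, 8, 10, 8, 10, 8], [25, 20, 22, 24, 22, 20]),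
   ([12, 8, 10, 8, 10, 8], [23, 22, 23, 20, 23, 22]),
   ([12, 6, 6, 20, 6, 6], [37, 17, 16, 30, 16, 17]),
   ([10, 11, 7, 10, 7, 11], [27, 21, 21, 22, 21, 21]),
   ([10, 10, 11, 4, 11, 10], [29, 22, 20, 20, 20, 22]),
   ([10, 7, 11, 10, 11, 7], [27, 21, 21, 22, 21, 21]),
   ([8, 10, 8, 12, 8, 10], [25, 20, 22, 24, 22, 20]),
   ([8, 10, 8, 12, 8, 10], [23, 22, 23, 20, 23, 22]),
   ([8, 9, 12, 6, 12, 9], [25, 20, 22, 24, 22, 20]),
   ([8, 6, 12, 12, 12, 6], [27, 24, 21, 16, 21, 24]),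
   ([6, 12, 9, 8, 9, 12], [25, 20, 22, 24, 22, 20]),
   ([4, 11, 10, 10, 10, 11], [29, 22, 20, 20, 20, 22]),
   ([4, 8, 10, 16, 10, 8], [33, 24, 18, 16, 18, 24]),
   ([2, 16, 11, 0, 11, 16], [47, 16, 11, 32, 11, 16]),
   ([2, 12, 15, 0, 15, 12], [39, 12, 15, 40, 15, 12]),
   ([2, 6, 15, 12, 15, 6], [37, 26, 16, 12, 16, 26]),
   ([2, 0, 27, 0, 27, 0], [79, 0, 27, 0, 27, 0]),
   ([0, 27, 0, 2, 0, 27], [79, 0, 27, 0, 27, 0]),
   ([0, 21, 0, 14, 0, 21], [49, 0, 42, 0, 42, 0]),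
   ([0, 18, 0, 20, 0, 18], [49, 0, 42, 0, 42, 0]),
   ([0, 18, 0, 20, 0, 18], [43, 0, 45, 0, 45, 0]),
   ([0, 15, 12, 2, 12, 15], [39, 12, 15, 40, 15, 12]),
   ([0, 12, 0, 32, 0, 12], [67, 0, 33, 0, 33, 0]),
   ([0, 11, 16, 2, 16, 11], [47, 16, 11, 32, 11, 16]),
   ([0, 6, 12, 20, 12, 6], [39, 30, 15, 4, 15, 30]),
   ([0, 2, 16, 20, 16, 2], [49, 32, 10, 0, 10, 32]),
   ([0, 0, 12, 32, 12, 0], [67, 32, 1, 0, 1, 32]),
   ([0, 0, 0, 56, 0, 0], [133, 0, 0, 0, 0, 0])]

theorem chk6 : chk 6 T6 = true := by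
  delta chk
  rw [Fq.cV_eq (N := 6) (by decide), Fq.cL_eq (N := 6) (by decide)]
  decide +kernel

/-! ### powers -/

section pow
variable {K : Type u} [Field K] {M : Type v} [AddCommGroup M] [Module K M] [FiniteDimensional K M]

theorem finrank_ker_mul (T : Module.End K M) {p q : K[X]} (h : IsCoprime p q) :
    finrank K ↥(LinearMap.ker (aeval T (p * q))) = finrank K ↥(LinearMap.ker (aeval T p)) +
      finrank K ↥(LinearMap.ker (aeval T q)) := by
  rw [← Polynomial.sup_ker_aeval_eq_ker_aeval_mul_of_coprime T h]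
  have h1 := Submodule.finrank_sup_add_finrank_inf_eq (LinearMap.ker (aeval T p)) (LinearMap.ker (aeval T q))
  rw [(Polynomial.disjoint_ker_aeval_of_isCoprime T h).eq_bot, finrank_bot, add_zero] at h1
  exact h1

theorem ker_X_sub_C (T : Module.End K M) (μ : K) : finrank K ↥(LinearMap.ker (aeval T (X - C μ))) = ev T μ := by
  have h : aeval T (X - C μ) = T - μ • 1 := by
    rw [map_sub, aeval_X, aeval_C]
    rfl
  rw [h, ev, Module.End.eigenspace_def]

theorem ev_sq (h2 : (2 : K) ≠ 0) (T : Module.End K M) : ev (T ^ 2) 1 = ev T 1 + ev T (-1) := by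
  have hne : (1 : K) ≠ -1 := by
    intro h
    apply h2
    linear_combination h
  have hc : IsCoprime (X - C (1 : K)) (X - C (-1)) := Polynomial.isCoprime_X_sub_C_of_isUnit_sub (by
    rw [isUnit_iff_ne_zero]; exact sub_ne_zero.2 hne)
  rw [← ker_X_sub_C T 1, ← ker_X_sub_C T (-1), ← finrank_ker_mul T hc, ← ker_X_sub_C (T ^ 2) 1]
  have : aeval (T ^ 2) (X - C (1 : K)) = aeval T (((X - C (1 : K)) * (X - C (-1 : K))) : K[X]) := by
    have e : ((X - C (1 : K)) * (X - C (-1)) : K[X]) = X ^ 2 - C 1 := by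
      rw [C_neg, C_1]; ring
    rw [e, map_sub, map_sub, aeval_X, map_pow, aeval_X, aeval_C, aeval_C]
  rw [this]

theorem ev_cube {ω : K} (hω : ω ^ 2 + ω + 1 = 0) (h3 : (3 : K) ≠ 0) (T : Module.End K M) :
    ev (T ^ 3) 1 = ev T 1 + ev T ω + ev T (ω ^ 2) := by
  have h1 : (1 : K) ≠ ω := by
    rintro rfl
    apply h3
    linear_combination hω
  have h2 : (1 : K) ≠ ω ^ 2 := by
    intro h
    apply h3
    have h' : ω = -2 := by linear_combination hω + h
    rw [h'] at h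
    linear_combination -h
  have h4 : ω ≠ ω ^ 2 := by
    intro h
    have h' : ω * (ω - 1) = 0 := by linear_combination -h
    rcases mul_eq_zero.1 h' with h5 | h5
    · rw [h5] at hω
      norm_num at hω
    · exact h1 (by linear_combination -h5)
  have hu : ∀ {a b : K}, a ≠ b → IsUnit (a - b) := fun h => isUnit_iff_ne_zero.2 (sub_ne_zero.2 h)
  have c1 : IsCoprime (X - C (1 : K)) (X - C ω) := Polynomial.isCoprime_X_sub_C_of_isUnit_sub (hu h1)
  have c2 : IsCoprime (X - C (1 : K)) (X - C (ω ^ 2)) := Polynomial.isCoprime_X_sub_C_of_isUnit_sub (hu h2)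
  have c3 : IsCoprime (X - C ω) (X - C (ω ^ 2)) := Polynomial.isCoprime_X_sub_C_of_isUnit_sub (hu h4)
  rw [add_assoc, ← ker_X_sub_C T 1, ← ker_X_sub_C T ω, ← ker_X_sub_C T (ω ^ 2), ← finrank_ker_mul T c3,
    ← finrank_ker_mul T (c1.mul_right c2), ← ker_X_sub_C (T ^ 3) 1]
  have : aeval (T ^ 3) (X - C (1 : K)) = aeval T (((X - C (1 : K)) * ((X - C ω) * (X - C (ω ^ 2)))) : K[X]) := by
    have e : ((X - C (1 : K)) * ((X - C ω) * (X - C (ω ^ 2))) : K[X]) = X ^ 3 - C 1 := by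
      have e1 : C (ω ^ 2) = - C ω - 1 := by
        rw [← C_1, ← C_neg, ← C_sub]
        congr 1
        linear_combination hω
      have e2 : (C ω) ^ 2 = - C ω - 1 := by rw [← C_pow, e1]
      rw [e1, C_1]
      linear_combination (-(X - 1)) * e2
    rw [e, map_sub, map_sub, aeval_X, map_pow, aeval_X, aeval_C, aeval_C]
  rw [this]

end pow

section six
variable {F : Type u} [Field F] [Finite F]

/-- **elements of order 6** -/
theorem six (h6 : (6 : F) ≠ 0) {x : Gh F} (hx : x ^ 6 = 1) :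
    ∃ P ∈ T6, ev (V F x) 1 = P.1.getD 0 0 ∧ ev (V F (x ^ 2)) 1 = P.1.getD 0 0 + P.1.getD 3 0 ∧
      ev (V F (x ^ 3)) 1 = P.1.getD 0 0 + P.1.getD 2 0 + P.1.getD 4 0 ∧
      ev (L F x) 1 = P.2.getD 0 0 ∧ ev (L F (x ^ 2)) 1 = P.2.getD 0 0 + P.2.getD 3 0 := by
  have h6' : ((6 : ℕ) : F) ≠ 0 := by exact_mod_cast h6
  obtain ⟨p, hpp, hp, hcop⟩ := exists_char h6'
  obtain ⟨ζ, hζ, P, hP, h1⟩ := pat chk6 (by norm_num) p hcop hx
  have h6K : (6 : AlgebraicClosure F) ≠ 0 := by
    intro h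
    apply h6
    apply (algebraMap F (AlgebraicClosure F)).injective
    rw [map_ofNat, h, map_zero]
  have h2K : (2 : AlgebraicClosure F) ≠ 0 := by
    intro h
    apply h6K
    linear_combination 3 * h
  have h3K : (3 : AlgebraicClosure F) ≠ 0 := by
    intro h
    apply h6K
    linear_combination 2 * h
  have hζ3 : ζ ^ 3 = -1 := by
    have h2 : (ζ ^ 3 - 1) * (ζ ^ 3 + 1) = 0 := by linear_combination hζ.pow_eq_one
    rcases mul_eq_zero.1 h2 with h3 | h3
    · exact absurd (sub_eq_zero.1 h3) (hζ.pow_ne_one_of_pos_of_lt (by norm_num) (by norm_num))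
    · exact eq_neg_of_add_eq_zero_left h3
  have hω : (ζ ^ 2) ^ 2 + ζ ^ 2 + 1 = 0 := by
    have h2 : (ζ ^ 2 - 1) * ((ζ ^ 2) ^ 2 + ζ ^ 2 + 1) = 0 := by linear_combination hζ.pow_eq_one
    rcases mul_eq_zero.1 h2 with h3 | h3
    · exact absurd (sub_eq_zero.1 h3) (hζ.pow_ne_one_of_pos_of_lt (by norm_num) (by norm_num))
    · exact h3
  have e0 := h1 0 (by norm_num)
  have e2 := h1 2 (by norm_num)
  have e3 := h1 3 (by norm_num)
  have e4 := h1 4 (by norm_num)
  rw [pow_zero, ev_V_one, ev_L_one] at e0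
  rw [hζ3] at e3
  have h4 : ζ ^ 4 = (ζ ^ 2) ^ 2 := by ring
  rw [h4] at e4
  refine ⟨P, hP, e0.1, ?_, ?_, e0.2, ?_⟩
  · rw [← ev_V_one (algebraMap F (AlgebraicClosure F)), map_pow, map_pow, ev_sq h2K, e3.1, ev_V_one, e0.1]
  · rw [← ev_V_one (algebraMap F (AlgebraicClosure F)), map_pow, map_pow, ev_cube hω h3K, e2.1, e4.1, ev_V_one, e0.1]
  · rw [← ev_L_one (algebraMap F (AlgebraicClosure F)), map_pow, map_pow, ev_sq h2K, e3.2, ev_L_one, e0.2]

end six

end Cfsg.Agent.R2.T1.E5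
end

-- part: R2/T1/E5/Tor
section
set_option linter.all false
open scoped Cfsg.Agent.FastGrp

/-!
# S5771, n = 8, p = 5: commuting elements of order 3 (helper24)

* `no49` : four subgroups of order 3 in `3²` with 20 fixed weights; two of them cannot be of type `(20, 49)` if the other
  two have the same type.
-/

set_option autoImplicit false
set_option maxRecDepth 100000

namespace Cfsg.Agent.R2.T1.E5

open Cfsg Cfsg.Lie Module
open Cfsg.Agent.H943.E7V.Block (D1 rho)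
open Cfsg.Agent.H952.F4 (ev es)
open Cfsg.Agent.R2.T1

universe u

theorem key1 : ∀ P ∈ T6, P.1.getD 0 0 + P.1.getD 3 0 = 20 → P.1.getD 0 0 + P.1.getD 2 0 + P.1.getD 4 0 = 24 →
      8 ≤ P.1.getD 0 0 → P.1.getD 0 0 ≤ 12 → (P.1.getD 0 0 = 8 ∧ P.2.getD 0 0 + P.2.getD 3 0 = 43 ∧ P.2.getD 0 0 = 23) ∨
      (P.1.getD 0 0 = 8 ∧ P.2.getD 0 0 + P.2.getD 3 0 = 49 ∧ P.2.getD 0 0 = 25) ∨
      (P.1.getD 0 0 = 10 ∧ P.2.getD 0 0 + P.2.getD 3 0 = 49 ∧ P.2.getD 0 0 = 27) ∨
      (P.1.getD 0 0 = 12 ∧ P.2.getD 0 0 + P.2.getD 3 0 = 43 ∧ P.2.getD 0 0 = 27) := by decide +kernel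

theorem key2 : ∀ P ∈ T6, P.1.getD 0 0 = 20 → P.2.getD 0 0 = 49 → P.1.getD 0 0 + P.1.getD 2 0 + P.1.getD 4 0 ≠ 32 := by
    decide +kernel

variable {F : Type u} [Field F] [Finite F]

theorem six' (h6 : (6 : F) ≠ 0) {w s : Gh F} (hw : w ^ 3 = 1) (hs : s ^ 2 = 1) (hc : w * s = s * w) :
    ∃ P ∈ T6, ev (V F (w * s)) 1 = P.1.getD 0 0 ∧ ev (V F w) 1 = P.1.getD 0 0 + P.1.getD 3 0 ∧
      ev (V F s) 1 = P.1.getD 0 0 + P.1.getD 2 0 + P.1.getD 4 0 ∧
      ev (L F (w * s)) 1 = P.2.getD 0 0 ∧ ev (L F w) 1 = P.2.getD 0 0 + P.2.getD 3 0 := by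
  have hc' : Commute w s := hc
  have hu : (w * s) ^ 6 = 1 := by
    rw [hc'.mul_pow, show (6 : ℕ) = 3 * 2 by norm_num, pow_mul, hw, one_pow, one_mul, mul_comm 3 2, pow_mul, hs, one_pow]
  obtain ⟨P, hP, e1, e2, e3, e4, e5⟩ := six h6 hu
  have hu2 : (w * s) ^ 2 = w⁻¹ := by
    rw [hc'.mul_pow, hs, mul_one]
    exact eq_inv_of_mul_eq_one_left (by rw [← pow_succ]; exact hw)
  have hu3 : (w * s) ^ 3 = s := by
    rw [hc'.mul_pow, hw, one_mul, pow_succ, hs, one_mul]
  rw [hu2, ev_inv] at e2 e5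
  rw [hu3] at e3
  exact ⟨P, hP, e1, e2, e3, e4, e5⟩

/-- the table for an element `w s`, `w` of order 3 with 20 fixed weights, `s` an involution with 24 -/
theorem row (h6 : (6 : F) ≠ 0) {w s : Gh F} (hw : w ^ 3 = 1) (hs : s ^ 2 = 1) (hc : w * s = s * w)
    (hV : ev (V F w) 1 = 20) (hV24 : ev (V F s) 1 = 24) (h8 : 8 ≤ ev (V F (w * s)) 1) (h12 : ev (V F (w * s)) 1 ≤ 12) :
    (ev (V F (w * s)) 1 = 8 ∧ ev (L F w) 1 = 43 ∧ ev (L F (w * s)) 1 = 23) ∨
    (ev (V F (w * s)) 1 = 8 ∧ ev (L F w) 1 = 49 ∧ ev (L F (w * s)) 1 = 25) ∨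
    (ev (V F (w * s)) 1 = 10 ∧ ev (L F w) 1 = 49 ∧ ev (L F (w * s)) 1 = 27) ∨
    (ev (V F (w * s)) 1 = 12 ∧ ev (L F w) 1 = 43 ∧ ev (L F (w * s)) 1 = 27) := by
  obtain ⟨P, hP, e1, e2, e3, e4, e5⟩ := six' h6 hw hs hc
  rw [e2] at hV
  rw [e3] at hV24
  rw [e1] at h8 h12
  have h9 := key1 P hP hV hV24 h8 h12
  rw [e1, e4, e5]
  exact h9

/-- the element `x s` -/
theorem row_x (h6 : (6 : F) ≠ 0) {w s : Gh F} (hw : w ^ 3 = 1) (hs : s ^ 2 = 1) (hc : w * s = s * w)
    (hVs : ev (V F s) 1 = 24 ∨ ev (V F s) 1 = 32) (h1 : ev (V F (w * s)) 1 = 20)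
    (h2 : ev (L F (w * s)) 1 = 49) : ev (V F s) 1 = 24 := by
  obtain ⟨P, hP, e1, e2, e3, e4, e5⟩ := six' h6 hw hs hc
  rw [e1] at h1
  rw [e4] at h2
  have h9 := key2 P hP h1 h2
  rcases hVs with h | h
  · exact h
  · rw [e3] at h
    exact absurd h h9

theorem odd_card (h2 : (2 : F) ≠ 0) : Odd (Nat.card F) := by
  by_contra h4
  rw [Nat.not_odd_iff_even] at h4
  have := Fintype.ofFinite F
  obtain ⟨k, hk⟩ := h4
  obtain ⟨n, hq, hn⟩ := FiniteField.card F (ringChar F)
  have h7 : ringChar F ∣ 2 := by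
    have h8 : 2 ∣ (ringChar F) ^ (n : ℕ) := by
      rw [← hn, ← Nat.card_eq_fintype_card, hk]
      exact ⟨k, by ring⟩
    have h9 := Nat.prime_two.dvd_of_dvd_pow h8
    rw [(Nat.prime_dvd_prime_iff_eq Nat.prime_two hq).1 h9]
  apply h2
  have := (ringChar.spec F 2).2 h7
  exact_mod_cast this

/-- the involution of the torus -/
theorem exists_s (h2 : (2 : F) ≠ 0) (h3 : (3 : F) ≠ 0) {x : Gh F} (hx : x ^ 3 = 1)
    (v1 : ev (V F x) 1 = 20) (l1 : ev (L F x) 1 = 49) : ∃ s : Gh F, s ^ 2 = 1 ∧ (∀ g, g * x = x * g → g * s = s * g) ∧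
      (∀ v, V F x v = v → V F s v = v) ∧ (∀ v, L F x v = v → L F s v = v) ∧
      (ev (V F s) 1 = 24 ∨ ev (V F s) 1 = 32) ∧ ev (L F s) 1 = 69 := by
  obtain ⟨y, m, hT, hfix⟩ := tor49 h2 h3 hx v1 l1
  have hm : Even m := by
    have h4 := odd_card (F := F) h2
    rcases hT.card with h5 | h5
    · rw [← h5] at h4
      rw [Nat.even_iff]
      rw [Nat.odd_iff] at h4
      omega
    · rw [Nat.even_iff]
      rw [Nat.odd_iff] at h4
      omega
  obtain ⟨m', hm'⟩ := hm
  have hm0 : 0 < m := by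
    rcases Nat.eq_zero_or_pos m with h | h
    · exfalso
      have h5 := hT.card
      have := Fintype.ofFinite F
      have h9 := Fintype.one_lt_card (α := F)
      rw [← Nat.card_eq_fintype_card] at h9
      rw [h] at h5
      omega
    · exact h
  have hs2 : (y ^ (3 * m')) ^ 2 = 1 := by
    rw [← pow_mul, show 3 * m' * 2 = 3 * m by omega, ← hT.order]
    exact pow_orderOf_eq_one y
  have hs1 : y ^ (3 * m') ≠ 1 := by
    intro h
    have h4 := orderOf_dvd_of_pow_eq_one h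
    rw [hT.order] at h4
    have h5 := Nat.le_of_dvd (by omega) h4
    omega
  have hcomm : ∀ g, g * x = x * g → g * y ^ (3 * m') = y ^ (3 * m') * g := by
    intro g hg
    have h4 : Commute g y := hT.comm g hg
    exact (h4.pow_right _).eq
  have hsV : ∀ v, V F x v = v → V F (y ^ (3 * m')) v = v := fun v hv => fix_pow (hfix v hv) _
  have hsL : ∀ v, L F x v = v → L F (y ^ (3 * m')) v = v := fun v hv => fix_pow (hT.fixL v hv) _
  generalize y ^ (3 * m') = s at hs2 hs1 hcomm hsV hsL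
  have hss : s * s = 1 := by rw [← pow_two]; exact hs2
  have had : ad F s ≠ 1 := by
    intro h
    rcases ad_eq_one_iff.1 h with h4 | h4
    · exact hs1 (faithful h4)
    · obtain ⟨v, hv0, hv⟩ : ∃ v : D1 → F, v ≠ 0 ∧ V F x v = v := by
        have h5 : Module.End.eigenspace (V F x) 1 ≠ ⊥ := by
          intro h6
          rw [ev, h6, finrank_bot] at v1
          omega
        obtain ⟨v, hv, hv0⟩ := Submodule.exists_mem_ne_zero_of_ne_bot h5
        rw [Module.End.mem_eigenspace_iff, one_smul] at hv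
        exact ⟨v, hv0, hv⟩
      have h5 := hsV v hv
      rw [neg_apply h4] at h5
      have h6 : (2 : F) • v = 0 := by
        rw [two_smul]
        nth_rewrite 1 [← h5]
        rw [neg_add_cancel]
      exact hv0 ((smul_eq_zero.1 h6).resolve_left h2)
  obtain ⟨hVs, hLs⟩ := two h2 hss had
  exact ⟨s, hs2, hcomm, hsV, hsL, hVs.symm, hLs⟩

theorem no49 (h2 : (2 : F) ≠ 0) (h3 : (3 : F) ≠ 0) {x z : Gh F} (hx : x ^ 3 = 1) (hz : z ^ 3 = 1) (hxz : x * z = z * x)
    (v1 : ev (V F x) 1 = 20) (v2 : ev (V F z) 1 = 20) (v3 : ev (V F (x * z)) 1 = 20) (v4 : ev (V F (x * z * z)) 1 = 20)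
    (l1 : ev (L F x) 1 = 49) (l2 : ev (L F z) 1 = 49) (l3 : ev (L F (x * z)) 1 = ev (L F (x * z * z)) 1) : False := by
  have h6 : (6 : F) ≠ 0 := by
    have : (6 : F) = 2 * 3 := by norm_num
    rw [this]
    exact mul_ne_zero h2 h3
  obtain ⟨s, hs2, hcomm, hsV, hsL, hVs, hLs⟩ := exists_s h2 h3 hx v1 l1
  have cx : x * s = s * x := hcomm x rfl
  have cz : z * s = s * z := hcomm z hxz.symm
  have kx : Commute x s := cx
  have kz : Commute z s := cz
  have cxz : (x * z) * s = s * (x * z) := kx.mul_left kz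
  have cxzz : (x * z * z) * s = s * (x * z * z) := (kx.mul_left kz).mul_left kz
  have hC : Commute x z := hxz
  have oxz : (x * z) ^ 3 = 1 := by rw [hC.mul_pow, hx, hz, one_mul]
  have oxzz : (x * z * z) ^ 3 = 1 := by
    rw [mul_assoc, (hC.mul_right hC).mul_pow, hx, one_mul, ← pow_two, ← pow_mul, mul_comm 2 3, pow_mul, hz, one_pow]
  obtain ⟨e, n1, n2, g1, g2, g3, g4⟩ := count (ρ := V F) h3 hx hz hs2 hxz cx cz hsV
  obtain ⟨e', n3, n4, -, -, -, g5⟩ := count (ρ := L F) h3 hx hz hs2 hxz cx cz hsL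
  rw [finrank_V] at n1
  rw [finrank_L] at n3
  have h24 := row_x h6 hx hs2 cx hVs (g4.trans v1) (g5.trans l1)
  have r1 := row h6 hz hs2 cz v2 h24 (by omega) (by omega)
  have r2 := row h6 oxz hs2 cxz v3 h24 (by omega) (by omega)
  have r3 := row h6 oxzz hs2 cxzz v4 h24 (by omega) (by omega)
  omega

end Cfsg.Agent.R2.T1.E5
end

-- part: R2/PX/Kap
section
set_option linter.all false
open scoped Cfsg.Agent.FastGrp

/-!
# Pattern X: the invariant form of the Lie algebra (helper3)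

`kap z w = trace (del z * del w)` : `kap_L` invariance, `kap_dd : kap z (dd x y) = sf (del z x) y`, `kap_nondeg`;
`kap_dd_dd : kap (dd x y) (dd u v) = sf (DD x y u) v`.
-/

set_option autoImplicit false

namespace Cfsg.Agent.R2.PX

open Cfsg Cfsg.Lie Matrix
open Cfsg.Agent.R2.T1
open Cfsg.Agent.H943.E7V.Block (D1 rho)

universe u
variable {F : Type u} [Field F]

/-- the trace form -/
noncomputable def kap (F : Type u) [Field F] : (chevE7.Idx → F) →ₗ[F] (chevE7.Idx → F) →ₗ[F] F :=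
  LinearMap.mk₂ F (fun z w => Matrix.trace (del F z * del F w))
    (fun z z' w => by rw [map_add, Matrix.add_mul, Matrix.trace_add])
    (fun c z w => by rw [map_smul, Matrix.smul_mul, Matrix.trace_smul, smul_eq_mul])
    (fun z w w' => by rw [map_add, Matrix.mul_add, Matrix.trace_add])
    (fun c z w => by rw [map_smul, Matrix.mul_smul, Matrix.trace_smul, smul_eq_mul])

theorem kap_apply (z w : chevE7.Idx → F) : kap F z w = Matrix.trace (del F z * del F w) := rfl

theorem rho_inv_mul (g : Gh F) : rho F g⁻¹ * rho F g = 1 := by rw [← map_mul, inv_mul_cancel, map_one]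

theorem rho_mul_inv (g : Gh F) : rho F g * rho F g⁻¹ = 1 := by rw [← map_mul, mul_inv_cancel, map_one]

section five
variable [CharP F 5]

theorem del_L (g : Gh F) (z : chevE7.Idx → F) : del F (L F g z) = rho F g * del F z * rho F g⁻¹ := by
  rw [L_adM, Matrix.toLin'_apply, del_equi two_ne g z, Matrix.mul_assoc, rho_mul_inv, Matrix.mul_one]

/-- invariance -/
theorem kap_L (g : Gh F) (z w : chevE7.Idx → F) : kap F (L F g z) (L F g w) = kap F z w := by
  rw [kap_apply, kap_apply, del_L, del_L]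
  have h1 : rho F g * del F z * rho F g⁻¹ * (rho F g * del F w * rho F g⁻¹) =
      rho F g * (del F z * del F w * rho F g⁻¹) := by
    rw [Matrix.mul_assoc, Matrix.mul_assoc, ← Matrix.mul_assoc (rho F g⁻¹), ← Matrix.mul_assoc (rho F g⁻¹), rho_inv_mul,
      Matrix.one_mul, Matrix.mul_assoc]
  rw [h1, Matrix.trace_mul_comm, Matrix.mul_assoc, rho_inv_mul, Matrix.mul_one]

theorem kap_dd (z : chevE7.Idx → F) (x y : D1 → F) : kap F z (dd x y) = sf F (del F z *ᵥ x) y := by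
  rw [kap_apply, del_dd, trace_del_DD']

theorem kap_dd_dd (x y u v : D1 → F) : kap F (dd x y) (dd u v) = sf F (DD F x y *ᵥ u) v := by
  rw [kap_dd, del_dd]

theorem kap_nondeg {z : chevE7.Idx → F} (h : ∀ w, kap F z w = 0) : z = 0 := by
  apply del_inj
  refine mat_ext fun b => ?_
  rw [Matrix.zero_mulVec]
  exact sf_nondeg' fun y => by rw [← kap_dd, h]

/-- `x` pure -/
theorem dd_eq_zero_iff (x y : D1 → F) : dd x y = 0 ↔ DD F x y = 0 := by
  constructor
  · intro h; rw [← del_dd, h, map_zero]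
  · intro h; rw [← del_dd] at h; exact del_inj h

/-- the multiplier of a similitude on `DD` -/
theorem IsSim.mul {Θ : (D1 → F) ≃ₗ[F] (D1 → F)} {b : F} (h : IsSim F Θ b) (x y z : D1 → F) :
    DD F (Θ x) (Θ y) *ᵥ Θ z = b • Θ (DD F x y *ᵥ z) := h.dd x y z

end five

end Cfsg.Agent.R2.PX
end

-- part: R2/PX/A/Ani
section
set_option linter.all false
open scoped Cfsg.Agent.FastGrp

-- part: R2/PX/A/Pat
section
/-!
# Pattern X of S5771, Part A: the dimensions of the fixed spaces (helper7)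

`PatX F ψ` : the dimensions of the fixed spaces of the elements of `A₈` of the types `2², 2⁴, 3, 3², 42` on the
56-dimensional module and of the types `2², 2⁴, 3, 3²` on the adjoint module.
-/

set_option autoImplicit false

namespace Cfsg.Agent.R2.PX.A

open Cfsg Cfsg.Lie Module
open Cfsg.Agent.R2.T1
open Cfsg.Agent.H952.F4 (ev es)

universe u

/-- the pattern `X` -/
structure PatX (F : Type u) [Field F] (ψ : ↥(alternatingGroup (Fin 8)) →* Gh F) : Prop where
  v2 : ∀ a : ↥(alternatingGroup (Fin 8)), (a : Equiv.Perm (Fin 8)).cycleType = {2, 2} → ev (V F (ψ a)) 1 = 32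
  v24 : ∀ a : ↥(alternatingGroup (Fin 8)), (a : Equiv.Perm (Fin 8)).cycleType = {2, 2, 2, 2} → ev (V F (ψ a)) 1 = 24
  v3 : ∀ a : ↥(alternatingGroup (Fin 8)), (a : Equiv.Perm (Fin 8)).cycleType = {3} → ev (V F (ψ a)) 1 = 20
  v33 : ∀ a : ↥(alternatingGroup (Fin 8)), (a : Equiv.Perm (Fin 8)).cycleType = {3, 3} → ev (V F (ψ a)) 1 = 20
  v42 : ∀ a : ↥(alternatingGroup (Fin 8)), (a : Equiv.Perm (Fin 8)).cycleType = {4, 2} → ev (V F (ψ a)) 1 = 16
  l2 : ∀ a : ↥(alternatingGroup (Fin 8)), (a : Equiv.Perm (Fin 8)).cycleType = {2, 2} → ev (L F (ψ a)) 1 = 69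
  l24 : ∀ a : ↥(alternatingGroup (Fin 8)), (a : Equiv.Perm (Fin 8)).cycleType = {2, 2, 2, 2} → ev (L F (ψ a)) 1 = 69
  l3 : ∀ a : ↥(alternatingGroup (Fin 8)), (a : Equiv.Perm (Fin 8)).cycleType = {3} → ev (L F (ψ a)) 1 = 43
  l33 : ∀ a : ↥(alternatingGroup (Fin 8)), (a : Equiv.Perm (Fin 8)).cycleType = {3, 3} → ev (L F (ψ a)) 1 = 43

end Cfsg.Agent.R2.PX.A
end

-- part: R2/PX/A/Ani
section
/-!
# Pattern X of S5771, Part A: anisotropy on the adjoint module (helper7)

* `PatX.ptV`, `PatX.ptL`;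
* `aniso` : a vector of the adjoint module fixed by the even permutations preserving `{0, 1, 2, 3}` and isotropic for
  `kap` is zero.
-/

set_option autoImplicit false

namespace Cfsg.Agent.R2.PX.A

open Cfsg Cfsg.Lie Module
open Cfsg.Agent.R2.T1
open Cfsg.Agent.H952.F4 (ev es)
open Cfsg.Agent.H943.E7V.Block (D1 rho)

universe u
variable {F : Type u} [Field F] {ψ : A8 →* Gh F}

theorem PatX.ptV (hP : PatX F ψ) : Pt (MonoidHom.comp (V F) ψ) 56 32 24 20 20 where
  dim := finrank_V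
  c2 a ha := by rw [nn_one]; exact hP.v2 a ha
  c24 a ha := by rw [nn_one]; exact hP.v24 a ha
  c3 a ha := by rw [nn_one]; exact hP.v3 a ha
  c33 a ha := by rw [nn_one]; exact hP.v33 a ha

theorem PatX.ptL (hP : PatX F ψ) : Pt (MonoidHom.comp (L F) ψ) 133 69 69 43 43 where
  dim := finrank_L
  c2 a ha := by rw [nn_one]; exact hP.l2 a ha
  c24 a ha := by rw [nn_one]; exact hP.l24 a ha
  c3 a ha := by rw [nn_one]; exact hP.l3 a ha
  c33 a ha := by rw [nn_one]; exact hP.l33 a ha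

theorem three_ne [CharP F 5] : (3 : F) ≠ 0 := by
  intro h
  have h1 : ((3 : ℕ) : F) = 0 := by exact_mod_cast h
  rw [CharP.cast_eq_zero_iff F 5] at h1
  omega

theorem seven_ne [CharP F 5] : (7 : F) ≠ 0 := by
  intro h
  have h1 : ((7 : ℕ) : F) = 0 := by exact_mod_cast h
  rw [CharP.cast_eq_zero_iff F 5] at h1
  omega

/-- **anisotropy** -/
theorem aniso [CharP F 5] (hP : PatX F ψ) {z : chevE7.Idx → F}
    (hz : ∀ a : A8, (∀ i : Fin 8, ((a : Equiv.Perm (Fin 8)) i).val < 4 ↔ i.val < 4) → L F (ψ a) z = z)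
    (h0 : kap F z z = 0) : z = 0 :=
  anisoL (ρ := MonoidHom.comp (L F) ψ) (B := kap F) two_ne three_ne hP.ptL (fun g x y => kap_L (ψ g) x y)
    (fun _ h => kap_nondeg h) hz h0

end Cfsg.Agent.R2.PX.A
end
end

-- part: R2/PX/A/Seven
section
prune_inst 0x4600c00010000000018001080000040460004221040000008e00e000ec044620002a040ac200410920a14c51031004811000110420000000a003000011a01a010035006b318ad04500081000084000000000000000000000000000000000004000000000
set_option linter.all false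
open scoped Cfsg.Agent.FastGrp

-- part: R2/PX/A/Row
section
/-!
# Pattern X of S5771, Part A: fixed vectors of `A₇` from fixed vectors of `A₆` (helper7)

* `trL` : 6-transitivity of `A₈`; `family1`, `family2`;
* `row` : if `A₆` has a non-zero fixed vector then `A₇` has a non-zero fixed vector.
-/

set_option autoImplicit false
set_option maxRecDepth 100000

namespace Cfsg.Agent.R2.PX.A

open Equiv Module

/-- transitivity on tuples -/
theorem trL {l l' : List (Fin 8)} (h : l.Nodup) (h' : l'.Nodup) (hlen : l.length = l'.length) (h6 : l.length ≤ 6) :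
    ∃ g : A8, l.map (g : Perm (Fin 8)) = l' := by
  have h1 : MulAction.IsMultiplyPretransitive A8 (Fin 8) (Nat.card (Fin 8) - 2) :=
    alternatingGroup.isMultiplyPretransitive (Fin 8)
  have h2 : MulAction.IsMultiplyPretransitive A8 (Fin 8) l.length :=
    MulAction.isMultiplyPretransitive_of_le (n := Nat.card (Fin 8) - 2) (by simpa using h6) (by simp)
  obtain ⟨g, hg⟩ := h2.exists_smul_eq (⟨l.get, List.nodup_iff_injective_get.1 h⟩ : Fin l.length ↪ Fin 8)
    ⟨fun i => l'.get (i.cast hlen), fun i j hij => by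
      have := List.nodup_iff_injective_get.1 h' hij
      simpa using this⟩
  refine ⟨g, ?_⟩
  refine List.ext_get (by rw [List.length_map, hlen]) fun n h3 h4 => ?_
  have h5 := DFunLike.congr_fun hg ⟨n, by rwa [List.length_map] at h3⟩
  simp only [List.get_eq_getElem, List.getElem_map]
  exact h5

universe u v
variable {K : Type u} [Field K] {M : Type v} [AddCommGroup M] [Module K M]
variable {ρ : Representation K A8 M}

theorem ρ_mul (a b : A8) (v : M) : ρ a (ρ b v) = ρ (a * b) v := by rw [map_mul]; rfl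

theorem coe_mul (a b : A8) (i : Fin 8) : ((a * b : A8) : Perm (Fin 8)) i = (a : Perm (Fin 8)) ((b : Perm (Fin 8)) i) := rfl

theorem inv_apply {a : A8} {i j : Fin 8} (h : (a : Perm (Fin 8)) i = j) : ((a⁻¹ : A8) : Perm (Fin 8)) j = i := by
  rw [← h]
  exact Equiv.symm_apply_apply _ _

/-- the translates of a vector fixed by the stabilizer of 7 -/
theorem family1 {y : M} (hy : ∀ g : A8, (g : Perm (Fin 8)) 7 = 7 → ρ g y = y) :
    ∃ w : Fin 8 → M, w 7 = y ∧ ∀ (g : A8) (i : Fin 8), ρ g (w i) = w ((g : Perm (Fin 8)) i) := by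
  have h1 : ∀ i : Fin 8, ∃ g : A8, (g : Perm (Fin 8)) 7 = i := fun i => by
    obtain ⟨g, hg⟩ := trL (l := [7]) (l' := [i]) (by simp) (by simp) rfl (by simp)
    exact ⟨g, by simpa using hg⟩
  choose γ hγ using h1
  have h2 : ∀ g g' : A8, (g : Perm (Fin 8)) 7 = (g' : Perm (Fin 8)) 7 → ρ g y = ρ g' y := by
    intro g g' h
    have h3 := hy (g'⁻¹ * g) (by rw [coe_mul, h]; exact inv_apply rfl)
    calc ρ g y = ρ (g' * (g'⁻¹ * g)) y := by congr 2; group
      _ = ρ g' (ρ (g'⁻¹ * g) y) := (ρ_mul _ _ _).symm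
      _ = ρ g' y := by rw [h3]
  refine ⟨fun i => ρ (γ i) y, ?_, fun g i => ?_⟩
  · exact hy _ (hγ 7)
  · show ρ g (ρ (γ i) y) = ρ (γ _) y
    rw [ρ_mul]
    apply h2
    rw [coe_mul, hγ, hγ]

/-- the translates of a vector fixed by the stabilizer of 6 and 7 -/
theorem family2 {v : M} (hv : ∀ g : A8, (g : Perm (Fin 8)) 6 = 6 → (g : Perm (Fin 8)) 7 = 7 → ρ g v = v) :
    ∃ w : Fin 8 → Fin 8 → M, w 6 7 = v ∧ (∀ i, w i i = 0) ∧
      ∀ (g : A8) (i j : Fin 8), ρ g (w i j) = w ((g : Perm (Fin 8)) i) ((g : Perm (Fin 8)) j) := by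
  have h1 : ∀ i j : Fin 8, ∃ g : A8, i ≠ j → (g : Perm (Fin 8)) 6 = i ∧ (g : Perm (Fin 8)) 7 = j := fun i j => by
    by_cases hij : i = j
    · exact ⟨1, fun h => absurd hij h⟩
    · obtain ⟨g, hg⟩ := trL (l := [6, 7]) (l' := [i, j]) (by simp) (by simp [hij]) rfl (by simp)
      simp only [List.map_cons, List.map_nil, List.cons.injEq, and_true] at hg
      exact ⟨g, fun _ => hg⟩
  choose γ hγ using h1
  have h2 : ∀ g g' : A8, (g : Perm (Fin 8)) 6 = (g' : Perm (Fin 8)) 6 → (g : Perm (Fin 8)) 7 = (g' : Perm (Fin 8)) 7 →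
      ρ g v = ρ g' v := by
    intro g g' h h'
    have h3 := hv (g'⁻¹ * g) (by rw [coe_mul, h]; exact inv_apply rfl) (by rw [coe_mul, h']; exact inv_apply rfl)
    calc ρ g v = ρ (g' * (g'⁻¹ * g)) v := by congr 2; group
      _ = ρ g' (ρ (g'⁻¹ * g) v) := (ρ_mul _ _ _).symm
      _ = ρ g' v := by rw [h3]
  refine ⟨fun i j => if i = j then 0 else ρ (γ i j) v, ?_, fun i => if_pos rfl, fun g i j => ?_⟩
  · show (if (6 : Fin 8) = 7 then (0 : M) else ρ (γ 6 7) v) = v
    have h67 : (6 : Fin 8) ≠ 7 := by decide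
    rw [if_neg h67]
    exact hv _ (hγ 6 7 h67).1 (hγ 6 7 h67).2
  · show ρ g (if i = j then (0 : M) else ρ (γ i j) v) = if _ = _ then (0 : M) else _
    by_cases hij : i = j
    · rw [if_pos hij, if_pos (by rw [hij]), map_zero]
    · have hij' : (g : Perm (Fin 8)) i ≠ (g : Perm (Fin 8)) j := fun h => hij ((g : Perm (Fin 8)).injective h)
      rw [if_neg hij, if_neg hij', ρ_mul]
      apply h2
      · rw [coe_mul, (hγ i j hij).1, (hγ _ _ hij').1]
      · rw [coe_mul, (hγ i j hij).2, (hγ _ _ hij').2]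

theorem sum8 (f : Fin 8 → M) : ∑ i, f i = f 0 + f 1 + f 2 + f 3 + f 4 + f 5 + f 6 + f 7 := Fin.sum_univ_eight f

/-- **the row sums** -/
theorem row [FiniteDimensional K M] (h2 : (2 : K) ≠ 0) (h3 : (3 : K) ≠ 0) (h7 : (7 : K) ≠ 0) (h : Pt ρ 56 32 24 20 20)
    {v : M} (hv : ∀ g : A8, (g : Perm (Fin 8)) 6 = 6 → (g : Perm (Fin 8)) 7 = 7 → ρ g v = v) (hne : v ≠ 0) :
    ∃ y : M, y ≠ 0 ∧ ∀ g : A8, (g : Perm (Fin 8)) 7 = 7 → ρ g y = y := by
  by_contra hcon
  push Not at hcon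
  have hno : ∀ y : M, (∀ g : A8, (g : Perm (Fin 8)) 7 = 7 → ρ g y = y) → y = 0 := by
    intro y hy
    by_contra hy0
    obtain ⟨g, hg, hg'⟩ := hcon y hy0
    exact hg' (hy g hg)
  obtain ⟨w, hw, hwi, hρ⟩ := family2 hv
  have h6 : (6 : K) ≠ 0 := by
    have : (6 : K) = 2 * 3 := by norm_num
    rw [this]; exact mul_ne_zero h2 h3
  have h8 : (8 : K) ≠ 0 := by
    have : (8 : K) = 2 * 2 * 2 := by norm_num
    rw [this]; exact mul_ne_zero (mul_ne_zero h2 h2) h2
  -- row sums and column sums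
  have hsum : ∀ f : Fin 8 → M, (∀ (g : A8) (i : Fin 8), ρ g (f i) = f ((g : Perm (Fin 8)) i)) → ∀ i, f i = 0 := by
    intro f hf i
    have h1 : f 7 = 0 := hno _ fun g hg => by rw [hf, hg]
    obtain ⟨g, hg⟩ := trL (l := [7]) (l' := [i]) (by simp) (by simp) rfl (by simp)
    have hg' : (g : Perm (Fin 8)) 7 = i := by simpa using hg
    rw [← hg', ← hf, h1, map_zero]
  have hrow : ∀ i, ∑ j, w i j = 0 := hsum _ fun g i => by
    rw [map_sum]
    simp only [hρ]
    exact Equiv.sum_comp (g : Perm (Fin 8)) fun j => w ((g : Perm (Fin 8)) i) j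
  have hcol : ∀ j, ∑ i, w i j = 0 := hsum _ fun g i => by
    rw [map_sum]
    simp only [hρ]
    exact Equiv.sum_comp (g : Perm (Fin 8)) fun j => w j ((g : Perm (Fin 8)) i)
  -- the symmetric part
  set p : Fin 8 → Fin 8 → M := fun i j => w i j + w j i with hp
  have psym : ∀ i j, p i j = p j i := fun i j => add_comm _ _
  have pii : ∀ i, p i i = 0 := fun i => by show w i i + w i i = 0; rw [hwi, add_zero]
  have pρ : ∀ (g : A8) i j, ρ g (p i j) = p ((g : Perm (Fin 8)) i) ((g : Perm (Fin 8)) j) := fun g i j => by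
    show ρ g (w i j + w j i) = _
    rw [map_add, hρ, hρ]
  have psum : ∀ i, ∑ j, p i j = 0 := fun i => by
    show ∑ j, (w i j + w j i) = 0
    rw [Finset.sum_add_distrib, hrow, hcol, add_zero]
  have x0 : p 0 1 + p 2 3 + p 4 5 + p 6 7 = 0 := by
    apply dimE h2 h
    · simp only [map_add, pρ]
      rw [show (e1 : Perm (Fin 8)) 0 = 1 by decide, show (e1 : Perm (Fin 8)) 1 = 0 by decide,
        show (e1 : Perm (Fin 8)) 2 = 3 by decide, show (e1 : Perm (Fin 8)) 3 = 2 by decide,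
        show (e1 : Perm (Fin 8)) 4 = 5 by decide, show (e1 : Perm (Fin 8)) 5 = 4 by decide,
        show (e1 : Perm (Fin 8)) 6 = 7 by decide, show (e1 : Perm (Fin 8)) 7 = 6 by decide,
        psym 1 0, psym 3 2, psym 5 4, psym 7 6]
    · simp only [map_add, pρ]
      rw [show (e2 : Perm (Fin 8)) 0 = 2 by decide, show (e2 : Perm (Fin 8)) 1 = 3 by decide,
        show (e2 : Perm (Fin 8)) 2 = 0 by decide, show (e2 : Perm (Fin 8)) 3 = 1 by decide,
        show (e2 : Perm (Fin 8)) 4 = 6 by decide, show (e2 : Perm (Fin 8)) 5 = 7 by decide,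
        show (e2 : Perm (Fin 8)) 6 = 4 by decide, show (e2 : Perm (Fin 8)) 7 = 5 by decide]
      abel
    · simp only [map_add, pρ]
      rw [show (c1 : Perm (Fin 8)) 0 = 4 by decide, show (c1 : Perm (Fin 8)) 1 = 5 by decide,
        show (c1 : Perm (Fin 8)) 2 = 6 by decide, show (c1 : Perm (Fin 8)) 3 = 7 by decide,
        show (c1 : Perm (Fin 8)) 4 = 0 by decide, show (c1 : Perm (Fin 8)) 5 = 1 by decide,
        show (c1 : Perm (Fin 8)) 6 = 2 by decide, show (c1 : Perm (Fin 8)) 7 = 3 by decide]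
      abel
  set q1 : A8 := ⟨swap 1 2 * swap 4 5, by rw [Equiv.Perm.mem_alternatingGroup]; decide +kernel⟩ with hq1
  have x1 : p 0 1 + p 2 3 = p 0 2 + p 1 3 := by
    have h1 := congrArg (ρ q1) x0
    simp only [map_add, pρ, map_zero] at h1
    rw [show (q1 : Perm (Fin 8)) 0 = 0 by decide, show (q1 : Perm (Fin 8)) 1 = 2 by decide,
        show (q1 : Perm (Fin 8)) 2 = 1 by decide, show (q1 : Perm (Fin 8)) 3 = 3 by decide,
        show (q1 : Perm (Fin 8)) 4 = 5 by decide, show (q1 : Perm (Fin 8)) 5 = 4 by decide,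
        show (q1 : Perm (Fin 8)) 6 = 6 by decide, show (q1 : Perm (Fin 8)) 7 = 7 by decide, psym 5 4] at h1
    linear_combination (norm := module) x0 - h1
  have x2 : ∀ l : Fin 8, ([0, 1, 2, l] : List (Fin 8)).Nodup → p 0 1 + p 2 l = p 0 2 + p 1 l := by
    intro l hl
    obtain ⟨g, hg⟩ := trL (l := [0, 1, 2, 3]) (l' := [0, 1, 2, l]) (by decide) hl rfl (by simp)
    simp only [List.map_cons, List.map_nil, List.cons.injEq, and_true] at hg
    obtain ⟨g0, g1, g2, g3⟩ := hg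
    have h1 := congrArg (ρ g) x1
    simp only [map_add, pρ, g0, g1, g2, g3] at h1
    exact h1
  have x3 : p 0 1 = p 0 2 := by
    have k3 := x2 3 (by decide)
    have k4 := x2 4 (by decide)
    have k5 := x2 5 (by decide)
    have k6 := x2 6 (by decide)
    have k7 := x2 7 (by decide)
    have r1 := psum 1
    have r2 := psum 2
    rw [sum8, pii, psym 1 0] at r1
    rw [sum8, pii, psym 2 0, psym 2 1] at r2
    have k8 : (6 : K) • p 0 1 = (6 : K) • p 0 2 := by
      linear_combination (norm := module) k3 + k4 + k5 + k6 + k7 + r1 - r2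
    exact smul_right_injective M h6 k8
  have x4 : ∀ i j k : Fin 8, ([i, j, k] : List (Fin 8)).Nodup → p i j = p i k := by
    intro i j k hl
    obtain ⟨g, hg⟩ := trL (l := [0, 1, 2]) (l' := [i, j, k]) (by decide) hl rfl (by simp)
    simp only [List.map_cons, List.map_nil, List.cons.injEq, and_true] at hg
    obtain ⟨g0, g1, g2⟩ := hg
    have h1 := congrArg (ρ g) x3
    simp only [pρ, g0, g1, g2] at h1
    exact h1
  have x5 : p 0 1 = 0 := by
    have r0 := psum 0
    rw [sum8, pii, x4 0 2 1 (by decide), x4 0 3 1 (by decide), x4 0 4 1 (by decide), x4 0 5 1 (by decide),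
      x4 0 6 1 (by decide), x4 0 7 1 (by decide)] at r0
    have k8 : (7 : K) • p 0 1 = (7 : K) • (0 : M) := by
      linear_combination (norm := module) r0
    exact smul_right_injective M h7 k8
  -- the antisymmetric part
  set m : Fin 8 → Fin 8 → M := fun i j => w i j - w j i with hm
  have msym : ∀ i j, m i j = - m j i := fun i j => (neg_sub _ _).symm
  have mii : ∀ i, m i i = 0 := fun i => sub_self _
  have mρ : ∀ (g : A8) i j, ρ g (m i j) = m ((g : Perm (Fin 8)) i) ((g : Perm (Fin 8)) j) := fun g i j => by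
    show ρ g (w i j - w j i) = _
    rw [map_sub, hρ, hρ]
  have msum : ∀ i, ∑ j, m i j = 0 := fun i => by
    show ∑ j, (w i j - w j i) = 0
    rw [Finset.sum_sub_distrib, hrow, hcol, sub_zero]
  have y0 : m 0 1 + m 1 2 + m 2 0 = 0 := by
    have h1 : ρ t2 (m 0 1 + m 1 2 + m 2 0) = m 0 1 + m 1 2 + m 2 0 := by
      apply dimP h2 h3 h
      · simp only [map_add, mρ]
        rw [show (p1 : Perm (Fin 8)) 0 = 1 by decide, show (p1 : Perm (Fin 8)) 1 = 2 by decide,
          show (p1 : Perm (Fin 8)) 2 = 0 by decide]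
        abel
      · simp only [map_add, mρ]
        rw [show (p2 : Perm (Fin 8)) 0 = 0 by decide, show (p2 : Perm (Fin 8)) 1 = 1 by decide,
          show (p2 : Perm (Fin 8)) 2 = 2 by decide]
    simp only [map_add, mρ] at h1
    rw [show (t2 : Perm (Fin 8)) 0 = 1 by decide, show (t2 : Perm (Fin 8)) 1 = 0 by decide,
          show (t2 : Perm (Fin 8)) 2 = 2 by decide, msym 1 0, msym 0 2, msym 2 1] at h1
    refine eq_zero_of_two h2 ?_
    linear_combination (norm := module) -h1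
  have y1 : ∀ k : Fin 8, ([0, 1, k] : List (Fin 8)).Nodup → m 0 1 + m 1 k + m k 0 = 0 := by
    intro k hl
    obtain ⟨g, hg⟩ := trL (l := [0, 1, 2]) (l' := [0, 1, k]) (by decide) hl rfl (by simp)
    simp only [List.map_cons, List.map_nil, List.cons.injEq, and_true] at hg
    obtain ⟨g0, g1, g2⟩ := hg
    have h1 := congrArg (ρ g) y0
    simp only [map_add, mρ, g0, g1, g2, map_zero] at h1
    exact h1
  have y2 : m 0 1 = 0 := by
    have k2 := y1 2 (by decide)
    have k3 := y1 3 (by decide)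
    have k4 := y1 4 (by decide)
    have k5 := y1 5 (by decide)
    have k6 := y1 6 (by decide)
    have k7 := y1 7 (by decide)
    have r0 := msum 0
    have r1 := msum 1
    rw [sum8, mii, msym 0 2, msym 0 3, msym 0 4, msym 0 5, msym 0 6, msym 0 7] at r0
    rw [sum8, mii, msym 1 0] at r1
    have k8 : (8 : K) • m 0 1 = (8 : K) • (0 : M) := by
      linear_combination (norm := module) k2 + k3 + k4 + k5 + k6 + k7 + r0 - r1
    exact smul_right_injective M h8 k8
  -- conclusion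
  apply hne
  have h9 : w 0 1 = 0 := by
    refine eq_zero_of_two h2 ?_
    have e1 : w 0 1 + w 1 0 = 0 := x5
    have e2 : w 0 1 - w 1 0 = 0 := y2
    linear_combination (norm := module) e1 + e2
  obtain ⟨g, hg⟩ := trL (l := [0, 1]) (l' := [6, 7]) (by decide) (by decide) rfl (by simp)
  simp only [List.map_cons, List.map_nil, List.cons.injEq, and_true] at hg
  have h10 := hρ g 0 1
  rw [hg.1, hg.2, h9, map_zero, hw] at h10
  exact h10.symm

end Cfsg.Agent.R2.PX.A
end

-- part: R2/PX/A/One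
section
/-!
# Pattern X of S5771, Part A: fixed vectors of `A₆` (helper7)

* `gen6c` : generators of `A₆` of type `(2², 42, 5)`;
* `io : A₆ →* A₈`, `io_surj`;
* `six` : `A₆` has a non-zero fixed vector.
-/

set_option autoImplicit false
set_option maxRecDepth 100000

namespace Cfsg.Agent.R2.PX.A

open Equiv Module
open Cfsg.Agent.H952.F4 (ev es GenT)

theorem gen6c : GenT 6 {2, 2} {4, 2} {5} :=
  Cfsg.Agent.H952.F4.Gen.genT_of (n := 4) (c[0, 1] * c[2, 3]) (c[0, 1, 2, 4] * c[3, 5]) (by decide +kernel)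
    (by decide +kernel)
    ![[],
    [],
    [2, 0, 2, 2, 0, 2, 0, 3, 0, 2, 0],
    [3, 0, 2, 0, 3, 0, 2, 2, 0, 3, 0],
    [0, 2, 2, 0, 2, 0, 3, 0, 2, 0, 2],
    [2, 2, 0, 2, 0, 3, 0, 2, 2, 0]]
    (by decide +kernel) (by decide +kernel) (by decide +kernel) (by decide +kernel)

/-- `Fin 6` as a subset of `Fin 8` -/
def f6 : Fin 6 ≃ {i : Fin 8 // i.val < 6} where
  toFun i := ⟨⟨i.val, by omega⟩, i.2⟩
  invFun i := ⟨i.1.val, i.2⟩
  left_inv _ := rfl
  right_inv _ := rfl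

/-- the embedding of `A₆` in `A₈` -/
def io : ↥(alternatingGroup (Fin 6)) →* A8 :=
  ((Perm.extendDomainHom f6).comp (alternatingGroup (Fin 6)).subtype).codRestrict (alternatingGroup (Fin 8)) fun g => by
    rw [Perm.mem_alternatingGroup]
    show Perm.sign ((g : Perm (Fin 6)).extendDomain f6) = 1
    rw [Perm.sign_extendDomain]
    exact Perm.mem_alternatingGroup.1 g.2

theorem io_coe (g : ↥(alternatingGroup (Fin 6))) : (io g : Perm (Fin 8)) = (g : Perm (Fin 6)).extendDomain f6 := rfl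

theorem io_ct (g : ↥(alternatingGroup (Fin 6))) :
    (io g : Perm (Fin 8)).cycleType = (g : Perm (Fin 6)).cycleType := by
  rw [io_coe, Perm.cycleType_extendDomain]

theorem io_surj {g : A8} (h6 : (g : Perm (Fin 8)) 6 = 6) (h7 : (g : Perm (Fin 8)) 7 = 7) : ∃ h, io h = g := by
  have hp : ∀ i : Fin 8, (((g : Perm (Fin 8)) i).val < 6 ↔ i.val < 6) := by
    intro i
    constructor
    · intro h
      by_contra hi
      have : i = 6 ∨ i = 7 := by
        have h8 : i.val = 6 ∨ i.val = 7 := by omega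
        rcases h8 with h8 | h8
        · left; exact Fin.ext h8
        · right; exact Fin.ext h8
      rcases this with rfl | rfl
      · rw [h6] at h; exact absurd h (by decide)
      · rw [h7] at h; exact absurd h (by decide)
    · intro h
      by_contra hi
      have : (g : Perm (Fin 8)) i = 6 ∨ (g : Perm (Fin 8)) i = 7 := by
        have h8 : ((g : Perm (Fin 8)) i).val = 6 ∨ ((g : Perm (Fin 8)) i).val = 7 := by omega
        rcases h8 with h8 | h8
        · left; exact Fin.ext h8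
        · right; exact Fin.ext h8
      rcases this with h9 | h9
      · rw [← h6] at h9
        rw [(g : Perm (Fin 8)).injective h9] at h; exact absurd h (by decide)
      · rw [← h7] at h9
        rw [(g : Perm (Fin 8)).injective h9] at h; exact absurd h (by decide)
  set h0 : Perm (Fin 6) := f6.symm.permCongr ((g : Perm (Fin 8)).subtypePerm hp) with hh0
  have h1 : h0.extendDomain f6 = (g : Perm (Fin 8)) := by
    ext i
    by_cases hi : i.val < 6
    · rw [Perm.extendDomain_apply_subtype h0 f6 (h := hi)]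
      rfl
    · rw [Perm.extendDomain_apply_not_subtype h0 f6 (h := hi)]
      have : i = 6 ∨ i = 7 := by
        have h8 : i.val = 6 ∨ i.val = 7 := by omega
        rcases h8 with h8 | h8
        · left; exact Fin.ext h8
        · right; exact Fin.ext h8
      rcases this with rfl | rfl
      · rw [h6]
      · rw [h7]
  have h2 : Perm.sign h0 = 1 := by
    rw [← Perm.sign_extendDomain h0 f6, h1]
    exact Perm.mem_alternatingGroup.1 g.2
  exact ⟨⟨h0, Perm.mem_alternatingGroup.2 h2⟩, Subtype.ext h1⟩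

universe u v
variable {K : Type u} [Field K] {M : Type v} [AddCommGroup M] [Module K M]
variable {ρ : Representation K A8 M}

/-- **fixed vectors of `A₆`** -/
theorem six [FiniteDimensional K M] [CharP K 5] (h : Pt ρ 56 32 24 20 20)
    (h4 : ∀ a : A8, (a : Perm (Fin 8)).cycleType = {4, 2} → nn ρ [a] = 16)
    (B : M →ₗ[K] M →ₗ[K] K) (hB : ∀ v, (∀ w, B v w = 0) → v = 0) (hinv : ∀ g v w, B (ρ g v) (ρ g w) = B v w) :
    ∃ v : M, v ≠ 0 ∧ ∀ g : A8, (g : Perm (Fin 8)) 6 = 6 → (g : Perm (Fin 8)) 7 = 7 → ρ g v = v := by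
  obtain ⟨x, y, hgen, hx, hy, hxy⟩ := gen6c
  have h1 := Cfsg.Agent.H952.F4.Scott.scott_form (MonoidHom.comp ρ io) hgen B hB (fun g v w => hinv (io g) v w)
  have e1 : ev ((MonoidHom.comp ρ io : Representation K _ M) x) 1 = 32 := by
    have := h.c2 (io x) (by rw [io_ct, hx])
    rwa [nn_one] at this
  have e2 : ev ((MonoidHom.comp ρ io : Representation K _ M) y) 1 = 16 := by
    have := h4 (io y) (by rw [io_ct, hy])
    rwa [nn_one] at this
  have e3 : 56 ≤ 5 * ev ((MonoidHom.comp ρ io : Representation K _ M) (x * y)) 1 := by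
    have : Fact (Nat.Prime 5) := ⟨by norm_num⟩
    rw [← h.dim]
    apply Cfsg.Agent.R2.T1.Five.ev_ge
    rw [← map_pow]
    have h5 : (x * y) ^ 5 = 1 := by
      have h6 := pow_orderOf_eq_one (x * y)
      have h7 : orderOf (x * y) = 5 := by
        rw [← Subgroup.orderOf_coe, ← Perm.lcm_cycleType, hxy]
        rfl
      rwa [h7] at h6
    rw [h5, map_one]
  rw [h.dim, e1, e2] at h1
  have h2 : Representation.invariants (MonoidHom.comp ρ io) ≠ ⊥ := by
    intro h3
    rw [h3, finrank_bot] at h1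
    omega
  obtain ⟨v, hv, hv0⟩ := Submodule.exists_mem_ne_zero_of_ne_bot h2
  refine ⟨v, hv0, fun g g6 g7 => ?_⟩
  obtain ⟨k, rfl⟩ := io_surj g6 g7
  exact (Representation.mem_invariants _ _).1 hv k

end Cfsg.Agent.R2.PX.A
end

-- part: R2/PX/A/Seven
section
/-!
# Pattern X of S5771, Part A: fixed vectors of `A₇` (helper7)
-/

set_option autoImplicit false

namespace Cfsg.Agent.R2.PX.A

open Cfsg Cfsg.Lie Module
open Cfsg.Agent.R2.T1
open Cfsg.Agent.H952.F4 (ev es)
open Cfsg.Agent.H943.E7V.Block (D1 rho)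

universe u
variable {F : Type u} [Field F] {ψ : A8 →* Gh F}

/-- **`A₇` has a non-zero fixed vector** -/
theorem PatX.seven [CharP F 5] (hP : PatX F ψ) :
    ∃ y : D1 → F, y ≠ 0 ∧ ∀ g : A8, (g : Equiv.Perm (Fin 8)) 7 = 7 → V F (ψ g) y = y := by
  obtain ⟨v, hv, hv'⟩ := six (ρ := MonoidHom.comp (V F) ψ) hP.ptV
    (fun a ha => by rw [nn_one]; exact hP.v42 a ha) (sf F) (fun v h => sf_nondeg' h)
    (fun g v w => sf_V (ψ g) v w)
  exact row (ρ := MonoidHom.comp (V F) ψ) two_ne three_ne seven_ne hP.ptV hv' hv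

end Cfsg.Agent.R2.PX.A
end
end

-- part: R2/PX/A/A34c
section
prune_inst 0x4202c442100000000000010800000000000042210400000c8e00004084350620002a00102200810920804012001004000000010402000000a0000000000012010015006b308a104400081800080000000000000000000000000000000041004000000000
set_option linter.all false
open scoped Cfsg.Agent.FastGrp

-- part: R2/PX/A/A34
section
/-!
# Pattern X, part A: purity (helper5)

`v : Fin 8 → V F` permuted by `A_8` with sum 0, in characteristic 5.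
* `tr4`, `tr3`, `tr2` : transitivity;
* `om_zero` : `sf (v i) (v j) = 0`;
* `pure_of` : `v i` is pure if the vectors of `L F` fixed by the stabiliser of `{0, 1, 2, 3}` are anisotropic;
* `rr_zero` : `sf (v 0) (D(v 1, v 2) v 3) = 0` implies `D(v i, v j) = 0`.
-/

set_option autoImplicit false
set_option maxRecDepth 100000
set_option linter.unusedSectionVars false

namespace Cfsg.Agent.R2.PX.A4

open Cfsg Cfsg.Lie Module Matrix Equiv Equiv.Perm
open Cfsg.Agent.H943.E7V.Block (D1 rho)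
open Cfsg.Agent.R2.T1

universe u

/-- the alternating group of degree 8 -/
abbrev A8 : Type := ↥(alternatingGroup (Fin 8))

theorem tr4 {i j l m : Fin 8} (h : [i, j, l, m].Nodup) : ∃ q : A8, (q : Perm (Fin 8)) 0 = i ∧ (q : Perm (Fin 8)) 1 = j ∧
    (q : Perm (Fin 8)) 2 = l ∧ (q : Perm (Fin 8)) 3 = m := by
  obtain ⟨n, h5⟩ := W.exists_next _ h (by simp)
  obtain ⟨o, h6⟩ := W.exists_next _ h5 (by simp)
  obtain ⟨p, h7⟩ := W.exists_next _ h6 (by simp)
  obtain ⟨q, h8⟩ := W.exists_next _ h7 (by simp)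
  simp only [List.cons_append, List.nil_append] at h8
  obtain ⟨s, hs⟩ := W.exists_perm h8
  have hs' : ∀ a, s a = ![i, j, l, m, n, o, p, q] a := fun a => by
    have := congrFun (hs (fun x => x)) a
    rw [Function.comp_apply] at this
    rw [this]
  have e0 : s 0 = i := hs' 0
  have e1 : s 1 = j := hs' 1
  have e2 : s 2 = l := hs' 2
  have e3 : s 3 = m := hs' 3
  rcases Int.units_eq_one_or (sign s) with h9 | h9
  · exact ⟨⟨s, mem_alternatingGroup.2 h9⟩, e0, e1, e2, e3⟩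
  · have key : ∀ a : Fin 8, a ≠ 6 → a ≠ 7 → (s * swap 6 7 : Perm (Fin 8)) a = s a := fun a h1 h2 => by
      rw [Perm.mul_apply, swap_apply_of_ne_of_ne h1 h2]
    refine ⟨⟨s * swap 6 7, mem_alternatingGroup.2 ?_⟩, ?_, ?_, ?_, ?_⟩
    · rw [Perm.sign_mul, h9, sign_swap (by decide)]
      rfl
    · exact (key 0 (by decide) (by decide)).trans e0
    · exact (key 1 (by decide) (by decide)).trans e1
    · exact (key 2 (by decide) (by decide)).trans e2
    · exact (key 3 (by decide) (by decide)).trans e3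

theorem tr3 {i j l : Fin 8} (h : [i, j, l].Nodup) : ∃ q : A8, (q : Perm (Fin 8)) 0 = i ∧ (q : Perm (Fin 8)) 1 = j ∧
    (q : Perm (Fin 8)) 2 = l := by
  obtain ⟨n, h5⟩ := W.exists_next _ h (by simp)
  obtain ⟨q, h0, h1, h2, -⟩ := tr4 h5
  exact ⟨q, h0, h1, h2⟩

theorem tr2 {i j : Fin 8} (h : i ≠ j) : ∃ q : A8, (q : Perm (Fin 8)) 0 = i ∧ (q : Perm (Fin 8)) 1 = j := by
  obtain ⟨n, h5⟩ := W.exists_next [i, j] (by simp [h]) (by simp)
  obtain ⟨q, h0, h1, -⟩ := tr3 h5
  exact ⟨q, h0, h1⟩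

/-- the block -/
def T4 : Finset (Fin 8) := Finset.univ.filter fun i => i.val < 4

theorem sum_T4 {M : Type*} [AddCommMonoid M] (g : Fin 8 → M) : ∑ i ∈ T4, g i = g 0 + g 1 + g 2 + g 3 := by
  have h : T4 = {0, 1, 2, 3} := by decide
  rw [h, Finset.sum_insert (by decide), Finset.sum_insert (by decide), Finset.sum_insert (by decide),
    Finset.sum_singleton, add_assoc, add_assoc]

theorem sum_T4_perm {M : Type*} [AddCommMonoid M] (g : Fin 8 → M) {a : A8}
    (ha : ∀ i : Fin 8, ((a : Perm (Fin 8)) i).val < 4 ↔ i.val < 4) : ∑ i ∈ T4, g ((a : Perm (Fin 8)) i) = ∑ i ∈ T4, g i := by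
  refine Finset.sum_equiv (a : Perm (Fin 8)) (fun i => ?_) fun i _ => rfl
  rw [T4, Finset.mem_filter, Finset.mem_filter]
  simp [ha]

section
variable {F : Type u} [Field F] [CharP F 5] {ψ : A8 →* Gh F} {v : Fin 8 → D1 → F}
  (act : ∀ (p : A8) (i : Fin 8), V F (ψ p) (v i) = v ((p : Perm (Fin 8)) i))
include act

theorem sf_eqv (q : A8) (i j : Fin 8) : sf F (v ((q : Perm (Fin 8)) i)) (v ((q : Perm (Fin 8)) j)) = sf F (v i) (v j) := by
  rw [← act, ← act, sf_V]

theorem dd_eqv (q : A8) (i j : Fin 8) : L F (ψ q) (dd (v i) (v j)) = dd (v ((q : Perm (Fin 8)) i)) (v ((q : Perm (Fin 8)) j)) := by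
  rw [dd_L, act, act]

theorem om_zero (i j : Fin 8) : sf F (v i) (v j) = 0 := by
  by_cases h : i = j
  · rw [h, sf_self]
  · obtain ⟨q, h0, h1⟩ := tr2 h
    obtain ⟨q', h0', h1'⟩ := tr2 (Ne.symm h)
    have e1 := sf_eqv act q 0 1
    have e2 := sf_eqv act q' 0 1
    rw [h0, h1] at e1
    rw [h0', h1', ← e1, sf_swap (v j) (v i)] at e2
    have h3 : (2 : F) * sf F (v i) (v j) = 0 := by linear_combination -e2
    exact (mul_eq_zero.1 h3).resolve_left two_ne

theorem DD_sym (i j k : Fin 8) : DD F (v i) (v j) *ᵥ v k = DD F (v i) (v k) *ᵥ v j := by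
  have h := ident (v i) (v j) (v k)
  rw [om_zero act, om_zero act, om_zero act] at h
  rw [← sub_eq_zero, h]
  module

/-- the four-linear form -/
noncomputable def ff (v : Fin 8 → D1 → F) (i j k l : Fin 8) : F := kap F (dd (v i) (v j)) (dd (v k) (v l))

omit act in
theorem ff12 (i j k l : Fin 8) : ff v i j k l = ff v j i k l := by rw [ff, dd_comm]; rfl

omit act in
theorem ff34 (i j k l : Fin 8) : ff v i j k l = ff v i j l k := by rw [ff, dd_comm (v k)]; rfl

theorem ff23 (i j k l : Fin 8) : ff v i j k l = ff v i k j l := by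
  rw [ff, ff, kap_dd_dd, kap_dd_dd, DD_sym act]

theorem ff_eqv (q : A8) (i j k l : Fin 8) : ff v ((q : Perm (Fin 8)) i) ((q : Perm (Fin 8)) j) ((q : Perm (Fin 8)) k)
    ((q : Perm (Fin 8)) l) = ff v i j k l := by
  rw [ff, ← dd_eqv act, ← dd_eqv act, kap_L]
  rfl

theorem ff_E {i j k l : Fin 8} (h : [i, j, k, l].Nodup) : ff v i j k l = ff v 0 1 2 3 := by
  obtain ⟨q, h0, h1, h2, h3⟩ := tr4 h
  rw [← ff_eqv act q 0 1 2 3, h0, h1, h2, h3]

theorem ff_D {i j k : Fin 8} (h : [i, j, k].Nodup) : ff v i i j k = ff v 0 0 1 2 := by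
  obtain ⟨q, h0, h1, h2⟩ := tr3 h
  rw [← ff_eqv act q 0 0 1 2, h0, h1, h2]

theorem ff_C {i j : Fin 8} (h : i ≠ j) : ff v i i j j = ff v 0 0 1 1 := by
  obtain ⟨q, h0, h1⟩ := tr2 h
  rw [← ff_eqv act q 0 0 1 1, h0, h1]

theorem ff_B {i j : Fin 8} (h : i ≠ j) : ff v i i i j = ff v 0 0 0 1 := by
  obtain ⟨q, h0, h1⟩ := tr2 h
  rw [← ff_eqv act q 0 0 0 1, h0, h1]

theorem ff_A (i : Fin 8) : ff v i i i i = ff v 0 0 0 0 := by
  obtain ⟨j, hj⟩ : ∃ j, i ≠ j := by
    obtain ⟨j, hj⟩ := exists_ne i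
    exact ⟨j, hj.symm⟩
  obtain ⟨q, h0, -⟩ := tr2 hj
  rw [← ff_eqv act q 0 0 0 0, h0]

variable (hsum : ∑ i, v i = 0)
include hsum

omit act in
theorem ff_sum (i j k : Fin 8) : ∑ l, ff v i j k l = 0 := by
  have h : ∀ l, ff v i j k l = sf F (DD F (v i) (v j) *ᵥ v k) (v l) := fun l => by rw [ff, kap_dd_dd]
  rw [Finset.sum_congr rfl fun l _ => h l, ← map_sum, hsum, map_zero]

theorem rel_D : ff v 0 0 1 2 = 0 := by
  have h := ff_sum hsum 0 1 2
  rw [Fin.sum_univ_eight] at h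
  have e0 : ff v 0 1 2 0 = ff v 0 0 1 2 := by rw [ff34, ff23 act 0 1 0 2]
  have e1 : ff v 0 1 2 1 = ff v 0 0 1 2 := by
    rw [ff34, ff12, ff23 act 1 0 1 2]
    exact ff_D act (by decide)
  have e2 : ff v 0 1 2 2 = ff v 0 0 1 2 := by
    rw [ff23 act, ff12, ff34, ff23 act 2 0 2 1, ff34]
    rw [ff34]
    exact ff_D act (by decide)
  have e4 : ff v 0 1 2 4 = ff v 0 1 2 3 := ff_E act (by decide)
  have e5 : ff v 0 1 2 5 = ff v 0 1 2 3 := ff_E act (by decide)
  have e6 : ff v 0 1 2 6 = ff v 0 1 2 3 := ff_E act (by decide)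
  have e7 : ff v 0 1 2 7 = ff v 0 1 2 3 := ff_E act (by decide)
  rw [e0, e1, e2, e4, e5, e6, e7] at h
  have h5 : (5 : F) = 0 := five_zero
  have h6 : (3 : F) * ff v 0 0 1 2 = 0 := by linear_combination h - ff v 0 1 2 3 * h5
  have h3 : (3 : F) ≠ 0 := fun h3 => two_ne (F := F) (by linear_combination h5 - h3)
  exact (mul_eq_zero.1 h6).resolve_left h3

theorem rel_C : ff v 0 0 0 1 + ff v 0 0 1 1 = 0 := by
  have h := ff_sum hsum 0 0 1
  rw [Fin.sum_univ_eight] at h
  have hD := rel_D act hsum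
  have e0 : ff v 0 0 1 0 = ff v 0 0 0 1 := ff34 _ _ _ _
  have e3 : ff v 0 0 1 3 = 0 := (ff_D act (by decide)).trans hD
  have e4 : ff v 0 0 1 4 = 0 := (ff_D act (by decide)).trans hD
  have e5 : ff v 0 0 1 5 = 0 := (ff_D act (by decide)).trans hD
  have e6 : ff v 0 0 1 6 = 0 := (ff_D act (by decide)).trans hD
  have e7 : ff v 0 0 1 7 = 0 := (ff_D act (by decide)).trans hD
  rw [e0, hD, e3, e4, e5, e6, e7] at h
  linear_combination h

theorem rel_B : ff v 0 0 0 0 + 7 * ff v 0 0 0 1 = 0 := by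
  have h := ff_sum hsum 0 0 0
  rw [Fin.sum_univ_eight] at h
  have e2 : ff v 0 0 0 2 = ff v 0 0 0 1 := ff_B act (by decide)
  have e3 : ff v 0 0 0 3 = ff v 0 0 0 1 := ff_B act (by decide)
  have e4 : ff v 0 0 0 4 = ff v 0 0 0 1 := ff_B act (by decide)
  have e5 : ff v 0 0 0 5 = ff v 0 0 0 1 := ff_B act (by decide)
  have e6 : ff v 0 0 0 6 = ff v 0 0 0 1 := ff_B act (by decide)
  have e7 : ff v 0 0 0 7 = ff v 0 0 0 1 := ff_B act (by decide)
  rw [e2, e3, e4, e5, e6, e7] at h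
  linear_combination h

variable (han : ∀ z : chevE7.Idx → F, (∀ a : A8, (∀ i : Fin 8, ((a : Perm (Fin 8)) i).val < 4 ↔ i.val < 4) →
  L F (ψ a) z = z) → kap F z z = 0 → z = 0)
include han

theorem sum_sq_zero : ∑ i ∈ T4, dd (v i) (v i) = 0 := by
  apply han
  · intro a ha
    rw [map_sum, Finset.sum_congr rfl fun i _ => dd_eqv act a i i]
    exact sum_T4_perm (fun i => dd (v i) (v i)) ha
  · rw [map_sum]
    have h1 : ∀ j, kap F (∑ i ∈ T4, dd (v i) (v i)) (dd (v j) (v j)) = ∑ i ∈ T4, ff v i i j j := fun j => by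
      rw [map_sum, LinearMap.sum_apply]
      rfl
    rw [Finset.sum_congr rfl fun j _ => h1 j, sum_T4, sum_T4, sum_T4, sum_T4, sum_T4]
    have hA := fun i => ff_A act i
    have hC : ∀ i j : Fin 8, i ≠ j → ff v i i j j = ff v 0 0 1 1 := fun i j h => ff_C act h
    rw [hA 1, hA 2, hA 3, hC 1 0 (by decide), hC 2 0 (by decide), hC 3 0 (by decide), hC 2 1 (by decide), hC 3 1 (by decide),
      hC 0 2 (by decide), hC 1 2 (by decide), hC 3 2 (by decide), hC 0 3 (by decide), hC 1 3 (by decide),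
      hC 2 3 (by decide)]
    have h2 := rel_B act hsum
    have h3 := rel_C act hsum
    have h5 : (5 : F) = 0 := five_zero
    linear_combination 4 * h2 + 12 * h3 - 8 * ff v 0 0 0 1 * h5

theorem pure_all (i : Fin 8) : dd (v i) (v i) = 0 := by
  have h1 := sum_sq_zero act hsum han
  rw [sum_T4] at h1
  have key : ∀ q : A8, dd (v ((q : Perm (Fin 8)) 0)) (v ((q : Perm (Fin 8)) 0)) + dd (v ((q : Perm (Fin 8)) 1)) (v ((q : Perm (Fin 8)) 1)) +
      dd (v ((q : Perm (Fin 8)) 2)) (v ((q : Perm (Fin 8)) 2)) + dd (v ((q : Perm (Fin 8)) 3)) (v ((q : Perm (Fin 8)) 3)) = 0 := by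
    intro q
    rw [← dd_eqv act, ← dd_eqv act, ← dd_eqv act, ← dd_eqv act, ← map_add, ← map_add, ← map_add, h1, map_zero]
  obtain ⟨q, h0, h1', h2, h3⟩ := tr4 (i := 0) (j := 1) (l := 2) (m := 4) (by decide)
  have h4 := key q
  rw [h0, h1', h2, h3] at h4
  have h34 : dd (v 4) (v 4) = dd (v 3) (v 3) := by
    have h5 : (dd (v 0) (v 0) + dd (v 1) (v 1) + dd (v 2) (v 2) + dd (v 4) (v 4)) =
      (dd (v 0) (v 0) + dd (v 1) (v 1) + dd (v 2) (v 2) + dd (v 3) (v 3)) := by rw [h4, h1]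
    exact add_left_cancel h5
  -- all are equal
  have heq : ∀ i j : Fin 8, i ≠ j → dd (v i) (v i) = dd (v j) (v j) := by
    obtain ⟨q, g0, g1⟩ := tr2 (i := 3) (j := 4) (by decide)
    have h6 : dd (v 0) (v 0) = dd (v 1) (v 1) := by
      have e1 := dd_eqv act q⁻¹ 3 3
      have e2 := dd_eqv act q⁻¹ 4 4
      have i1 : ((q⁻¹ : A8) : Perm (Fin 8)) 3 = 0 := by
        rw [← g0]; exact (q : Perm (Fin 8)).symm_apply_apply 0
      have i2 : ((q⁻¹ : A8) : Perm (Fin 8)) 4 = 1 := by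
        rw [← g1]; exact (q : Perm (Fin 8)).symm_apply_apply 1
      rw [i1] at e1
      rw [i2] at e2
      rw [← e1, ← e2, h34]
    intro i j hij
    obtain ⟨q, g0, g1⟩ := tr2 hij
    have e1 := dd_eqv act q 0 0
    have e2 := dd_eqv act q 1 1
    rw [g0] at e1
    rw [g1] at e2
    rw [← e1, ← e2, h6]
  have h00 : dd (v 0) (v 0) = 0 := by
    rw [heq 1 0 (by decide), heq 2 0 (by decide), heq 3 0 (by decide)] at h1
    have h7 : (4 : F) • dd (v 0) (v 0) = 0 := by
      rw [← h1]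
      module
    have h8 : (4 : F) ≠ 0 := by
      have : (4 : F) = 2 * 2 := by norm_num
      rw [this]
      exact mul_ne_zero two_ne two_ne
    exact (smul_eq_zero_iff_right h8).1 h7
  by_cases hi : i = 0
  · rw [hi]; exact h00
  · rw [heq i 0 hi, h00]

/-- all values of the form are zero if `E = 0` -/
theorem ff_zero (hE : ff v 0 1 2 3 = 0) (i j k l : Fin 8) : ff v i j k l = 0 := by
  have hp : ∀ i k l, ff v i i k l = 0 := fun i k l => by
    rw [ff, pure_all act hsum han, map_zero, LinearMap.zero_apply]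
  by_cases h : [i, j, k, l].Nodup
  · rw [ff_E act h, hE]
  · have h' : i = j ∨ i = k ∨ i = l ∨ j = k ∨ j = l ∨ k = l := by
      by_contra hc
      push Not at hc
      apply h
      simp only [List.nodup_cons, List.mem_cons, not_or, List.not_mem_nil, not_false_eq_true,
        List.nodup_nil, and_true]
      (clear * - hc; tauto)
    rcases h' with rfl | rfl | rfl | rfl | rfl | rfl
    · exact hp _ _ _
    · rw [ff23 act]; exact hp _ _ _
    · rw [ff34, ff23 act]; exact hp _ _ _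
    · rw [ff12, ff23 act]; exact hp _ _ _
    · rw [ff12, ff34, ff23 act]; exact hp _ _ _
    · rw [ff, pure_all act hsum han, map_zero]

theorem sum_pairs_zero (hE : ff v 0 1 2 3 = 0) : ∑ i ∈ T4, ∑ j ∈ T4, dd (v i) (v j) = 0 := by
  apply han
  · intro a ha
    rw [map_sum, ← sum_T4_perm (fun i => ∑ j ∈ T4, dd (v i) (v j)) ha]
    refine Finset.sum_congr rfl fun i _ => ?_
    rw [map_sum, ← sum_T4_perm (fun j => dd (v ((a : Perm (Fin 8)) i)) (v j)) ha]
    exact Finset.sum_congr rfl fun j _ => dd_eqv act a i j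
  · rw [map_sum]
    refine Finset.sum_eq_zero fun k _ => ?_
    rw [map_sum]
    refine Finset.sum_eq_zero fun l _ => ?_
    rw [map_sum, LinearMap.sum_apply]
    refine Finset.sum_eq_zero fun i _ => ?_
    rw [map_sum, LinearMap.sum_apply]
    exact Finset.sum_eq_zero fun j _ => ff_zero act hsum han hE i j k l

/-- the sum over the pairs of four indices -/
theorem pairs_zero (hE : ff v 0 1 2 3 = 0) {a b c d : Fin 8} (h : [a, b, c, d].Nodup) :
    dd (v a) (v b) + dd (v a) (v c) + dd (v a) (v d) + dd (v b) (v c) + dd (v b) (v d) + dd (v c) (v d) = 0 := by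
  obtain ⟨q, h0, h1, h2, h3⟩ := tr4 h
  have h4 := sum_pairs_zero act hsum han hE
  rw [sum_T4, sum_T4, sum_T4, sum_T4, sum_T4] at h4
  have p := fun i => pure_all act hsum han i
  rw [p, p, p, p, dd_comm (v 1) (v 0), dd_comm (v 2) (v 0), dd_comm (v 2) (v 1), dd_comm (v 3) (v 0),
    dd_comm (v 3) (v 1), dd_comm (v 3) (v 2)] at h4
  have h5 : dd (v 0) (v 1) + dd (v 0) (v 2) + dd (v 0) (v 3) + dd (v 1) (v 2) + dd (v 1) (v 3) + dd (v 2) (v 3) = 0 := by
    have h6 : (2 : F) • (dd (v 0) (v 1) + dd (v 0) (v 2) + dd (v 0) (v 3) + dd (v 1) (v 2) + dd (v 1) (v 3) + dd (v 2) (v 3)) = 0 := by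
      linear_combination (norm := module) h4
    exact (smul_eq_zero_iff_right two_ne).1 h6
  have h7 := congrArg (L F (ψ q)) h5
  rw [map_zero, map_add, map_add, map_add, map_add, map_add, dd_eqv act, dd_eqv act, dd_eqv act, dd_eqv act, dd_eqv act,
    dd_eqv act, h0, h1, h2, h3] at h7
  exact h7

theorem rr_eq (hE : ff v 0 1 2 3 = 0) {c d e : Fin 8} (h : [c, d, e].Nodup) : dd (v c) (v d) = dd (v c) (v e) := by
  obtain ⟨a, h4⟩ := W.exists_next _ h (by simp)
  obtain ⟨b, h5⟩ := W.exists_next _ h4 (by simp)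
  obtain ⟨f, h6⟩ := W.exists_next _ h5 (by simp)
  simp only [List.cons_append, List.nil_append, List.nodup_cons, List.mem_cons, not_or, List.not_mem_nil,
    not_false_eq_true, List.nodup_nil, and_true] at h6
  obtain ⟨⟨n1, n2, n3, n4, n5⟩, ⟨n6, n7, n8, n9⟩, ⟨n10, n11, n12⟩, ⟨n13, n14⟩, n15⟩ := h6
  have S := fun {a b c d : Fin 8} (h : [a, b, c, d].Nodup) => pairs_zero act hsum han hE h
  have sab := S (a := a) (b := b) (c := c) (d := d) (by
    simp only [List.nodup_cons, List.mem_cons, not_or, List.not_mem_nil, not_false_eq_true, List.nodup_nil, and_true]; (clear * - n1 n3 n4 n7 n8 n13; (solve | grind only | tauto)))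
  have sab' := S (a := a) (b := b) (c := c) (d := e) (by
    simp only [List.nodup_cons, List.mem_cons, not_or, List.not_mem_nil, not_false_eq_true, List.nodup_nil, and_true]; (clear * - n2 n3 n4 n10 n11 n13; (solve | grind only | tauto)))
  have saf := S (a := a) (b := f) (c := c) (d := d) (by
    simp only [List.nodup_cons, List.mem_cons, not_or, List.not_mem_nil, not_false_eq_true, List.nodup_nil, and_true]; (clear * - n1 n3 n5 n7 n9 n14; (solve | grind only | tauto)))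
  have saf' := S (a := a) (b := f) (c := c) (d := e) (by
    simp only [List.nodup_cons, List.mem_cons, not_or, List.not_mem_nil, not_false_eq_true, List.nodup_nil, and_true]; (clear * - n2 n3 n5 n10 n12 n14; (solve | grind only | tauto)))
  have sbf := S (a := b) (b := f) (c := c) (d := d) (by
    simp only [List.nodup_cons, List.mem_cons, not_or, List.not_mem_nil, not_false_eq_true, List.nodup_nil, and_true]; (clear * - n1 n4 n5 n8 n9 n15; (solve | grind only | tauto)))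
  have sbf' := S (a := b) (b := f) (c := c) (d := e) (by
    simp only [List.nodup_cons, List.mem_cons, not_or, List.not_mem_nil, not_false_eq_true, List.nodup_nil, and_true]; (clear * - n2 n4 n5 n11 n12 n15; (solve | grind only | tauto)))
  have sabf := S (a := a) (b := b) (c := f) (d := d) (by
    simp only [List.nodup_cons, List.mem_cons, not_or, List.not_mem_nil, not_false_eq_true, List.nodup_nil, and_true]; (clear * - n7 n8 n9 n15 n13 n14; (solve | grind only | tauto)))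
  have sabf' := S (a := a) (b := b) (c := f) (d := e) (by
    simp only [List.nodup_cons, List.mem_cons, not_or, List.not_mem_nil, not_false_eq_true, List.nodup_nil, and_true]; (clear * - n10 n11 n12 n15 n13 n14; tauto))
  have h3 : (3 : F) • (dd (v c) (v d) - dd (v c) (v e)) = 0 := by
    linear_combination (norm := module) sab - sab' + saf - saf' + sbf - sbf' - (2 : F) • sabf + (2 : F) • sabf'
  have h5 : (5 : F) = 0 := five_zero
  have h3' : (3 : F) ≠ 0 := fun h3 => two_ne (F := F) (by linear_combination h5 - h3)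
  exact sub_eq_zero.1 ((smul_eq_zero_iff_right h3').1 h3)

/-- **all `D(v i, v j)` vanish** -/
theorem rr_zero (hE : ff v 0 1 2 3 = 0) (i j : Fin 8) : dd (v i) (v j) = 0 := by
  by_cases hij : i = j
  · rw [hij]; exact pure_all act hsum han j
  · obtain ⟨q, g0, g1⟩ := tr2 hij
    have h1 : dd (v 0) (v 1) = 0 := by
      have h2 : ∑ k, dd (v 0) (v k) = 0 := by
        have h3 : ∀ k, dd (v 0) (v k) = ddL F (v 0) (v k) := fun k => rfl
        rw [Finset.sum_congr rfl fun k _ => h3 k, ← map_sum, hsum, map_zero]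
      rw [Fin.sum_univ_eight, pure_all act hsum han, rr_eq act hsum han hE (c := 0) (d := 2) (e := 1) (by decide),
        rr_eq act hsum han hE (c := 0) (d := 3) (e := 1) (by decide), rr_eq act hsum han hE (c := 0) (d := 4) (e := 1) (by decide),
        rr_eq act hsum han hE (c := 0) (d := 5) (e := 1) (by decide), rr_eq act hsum han hE (c := 0) (d := 6) (e := 1) (by decide),
        rr_eq act hsum han hE (c := 0) (d := 7) (e := 1) (by decide)] at h2
      have h5 : (5 : F) = 0 := five_zero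
      have h7 : (2 : F) • dd (v 0) (v 1) = 0 := by
        linear_combination (norm := module) h2 - h5 • dd (v 0) (v 1)
      exact (smul_eq_zero_iff_right two_ne).1 h7
    have e := dd_eqv act q 0 1
    rw [g0, g1, h1, map_zero] at e
    exact e.symm

end

end Cfsg.Agent.R2.PX.A4
end

-- part: R2/PX/A/A34b
section
/-!
# Pattern X, part A: the configuration (helper5)

* `contra` : `D(v i, v j) = 0` for all `i`, `j` is impossible (the root elements fixing the span of the `v i` lie in `H`);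
* `a34` : the `v i` form a configuration.
-/

set_option autoImplicit false
set_option maxRecDepth 100000
set_option linter.unusedSectionVars false

namespace Cfsg.Agent.R2.PX.A4

open Cfsg Cfsg.Lie Module Matrix Equiv Equiv.Perm
open Cfsg.Agent.H943.E7V.Block (D1 rho)
open Cfsg.Agent.H952.F4 (MaxAlt)
open Cfsg.Agent.R2.T1

universe u

variable {F : Type u} [Field F] [CharP F 5]

theorem three_ne : (3 : F) ≠ 0 := by
  intro h3
  have h5 : (5 : F) = 0 := five_zero
  exact two_ne (F := F) (by linear_combination h5 - h3)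

theorem equi : Equi F := fun g x y => DD_equi g x y

/-- the coordinates of a vector orthogonal to a weight vector -/
theorem zero_of {b0 : D1} {y : D1 → F} (h : DD F (bs F b0) y = 0) {b : D1} (hb : p2 b b0 = -1) : y b = 0 := by
  have h1 : p2 b0 (op b) = 1 := by rw [p2_op', p2_comm, hb]; rfl
  obtain ⟨r, hr, c, h4, hc⟩ := exists_mv h1
  have hr' : 125 - r < 126 := by omega
  have hinv : mv (125 - r) (nn b0) = some (nn (op b), c) := by
    rcases mv_spec hr (op b) with h5 | ⟨a', c', h5, -, -, h6⟩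
    · rw [h5] at h4; exact absurd h4 (by simp)
    · rw [h5, Option.some.injEq, Prod.mk.injEq] at h4
      rw [← nn_inj h4.1, ← h4.2]
      exact h6
  have e1 := Tr.DD_entry (F := F) hr h4 (bs F b0) y
  have e2 := Tr.NM_bs (F := F) hinv
  rw [h, Matrix.zero_apply, e2, map_smul, LinearMap.smul_apply, sf_single, op_op, smul_eq_mul] at e1
  have e3 : (-2 * ((c : F) * ((ep (op b) : ℤ) : F)) * (c : F)) * y b = 0 := by linear_combination -e1
  exact (mul_eq_zero.1 e3).resolve_left (mul_ne_zero (mul_ne_zero (neg_ne_zero.2 two_ne) (mul_ne_zero (cast_ne hc)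
    (cast_ne (ep_sq _)))) (cast_ne hc))

/-- the third weight -/
def c0 : D1 := ⟨⟨228, by decide +kernel⟩, by decide +kernel⟩

theorem p2_c0 : p2 c0 topv = 1 := by
  rw [Comb.p2_vv]
  show Comb.vv (Comb.ent 228) (Comb.ent 238) = 1
  decide +kernel

theorem p2_c0' : p2 c0 w2 = -1 := by
  rw [Comb.p2_vv]
  show Comb.vv (Comb.ent 228) (Comb.ent 237) = -1
  decide +kernel

variable {ψ : A8 →* Gh F} {v : Fin 8 → D1 → F}
  (act : ∀ (p : A8) (i : Fin 8), V F (ψ p) (v i) = v ((p : Perm (Fin 8)) i)) (hne : v 0 ≠ 0)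
include act

theorem v_of (q : A8) {i j : Fin 8} {c : F} (h : v i = c • v j) : v ((q : Perm (Fin 8)) i) = c • v ((q : Perm (Fin 8)) j) := by
  rw [← act, ← act, h, map_smul]

include hne

variable (hsum : ∑ i, v i = 0)
include hsum

theorem v_smul {i j : Fin 8} (hij : i ≠ j) (c : F) : v i ≠ c • v j := by
  intro h
  have key : ∀ k l m : Fin 8, [k, l, m].Nodup → v k = v l := by
    intro k l m hk
    obtain ⟨n, hn⟩ := W.exists_next [i, j] (by simp [hij]) (by simp)
    obtain ⟨q0, a0, a1, a2⟩ := tr3 hn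
    obtain ⟨q, b0, b1, b2⟩ := tr3 (i := k) (j := m) (l := l) (by
      simp only [List.nodup_cons, List.mem_cons, not_or, List.not_mem_nil, not_false_eq_true, List.nodup_nil, and_true] at hk ⊢
      (clear * - hk; tauto))
    obtain ⟨q', b0', b1', b2'⟩ := tr3 (i := l) (j := m) (l := k) (by
      simp only [List.nodup_cons, List.mem_cons, not_or, List.not_mem_nil, not_false_eq_true, List.nodup_nil, and_true] at hk ⊢
      (clear * - hk; tauto))
    have h01 : v 0 = c • v 1 := by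
      have := v_of act q0⁻¹ h
      rw [← a0, ← a1, show ((q0⁻¹ : A8) : Perm (Fin 8)) ((q0 : Perm (Fin 8)) 0) = 0 from (q0 : Perm (Fin 8)).symm_apply_apply 0,
        show ((q0⁻¹ : A8) : Perm (Fin 8)) ((q0 : Perm (Fin 8)) 1) = 1 from (q0 : Perm (Fin 8)).symm_apply_apply 1] at this
      exact this
    have e1 := v_of act q h01
    have e2 := v_of act q' h01
    rw [b0, b1] at e1
    rw [b0', b1'] at e2
    rw [e1, e2]
  have h0 := hsum
  rw [Fin.sum_univ_eight, key 1 0 2 (by decide), key 2 0 1 (by decide), key 3 0 1 (by decide), key 4 0 1 (by decide),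
    key 5 0 1 (by decide), key 6 0 1 (by decide), key 7 0 1 (by decide)] at h0
  have h5 : (5 : F) = 0 := five_zero
  have h8 : (3 : F) • v 0 = 0 := by
    linear_combination (norm := module) h0 - h5 • v 0
  exact hne ((smul_eq_zero_iff_right three_ne).1 h8)

theorem v_inj {i j : Fin 8} (h : v i = v j ∨ v i = - v j) : i = j ∧ v i = v j := by
  by_cases hij : i = j
  · exact ⟨hij, by rw [hij]⟩
  · exfalso
    rcases h with h | h
    · exact v_smul act hne hsum hij 1 (by rw [one_smul]; exact h)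
    · exact v_smul act hne hsum hij (-1) (by rw [neg_one_smul]; exact h)

variable [Finite F] {H : Subgroup ↥(chevE7.group F)} {φ : A8 →* ↥(chevE7.group F)} (hM : MaxAlt H 8 φ) (hL : Lift φ ψ)
  (hS : Stab (V F) H (Submodule.span F (Set.range v)))
include hM hL

/-- an element of the preimage of `H` fixing all `v i` is trivial -/
theorem eq_one {x : Gh F} (hx : ad F x ∈ H) (hv : ∀ i, V F x (v i) = v i) : x = 1 := by
  obtain ⟨σ, hσ⟩ := exists_perm (by norm_num) hM hx
  have hxi : ∀ i, V F x⁻¹ (v i) = v i := fun i => by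
    rw [← hv i, V_inv, hv]
  have hcen : ∀ a, φ a * ad F x = ad F x * φ a := by
    intro a
    have hmem : σ * (a : Perm (Fin 8)) * σ⁻¹ ∈ alternatingGroup (Fin 8) := by
      have ha := a.2
      rw [mem_alternatingGroup] at ha ⊢
      rw [Perm.sign_mul, Perm.sign_mul, ha, mul_one, Perm.sign_inv, Int.units_mul_self]
    set b : A8 := ⟨σ * a * σ⁻¹, hmem⟩ with hb
    have h1 := hσ a b rfl
    have h2 : ad F (x * ψ a * x⁻¹) = ad F (ψ b) := by
      rw [map_mul, map_mul, map_inv, hL, hL, h1]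
    have h3 : ∀ i, v ((a : Perm (Fin 8)) i) = v ((b : Perm (Fin 8)) i) ∨ v ((a : Perm (Fin 8)) i) = - v ((b : Perm (Fin 8)) i) := by
      intro i
      have h4 : V F (x * ψ a * x⁻¹) (v i) = v ((a : Perm (Fin 8)) i) := by
        rw [V_mul, V_mul, hxi, act, hv]
      rcases ad_eq_iff.1 h2 with h5 | h5
      · left
        rw [← h4, h5, act]
      · right
        rw [← h4, h5, LinearMap.neg_apply, act]
    have h4 : a = b := by
      apply Subtype.ext
      refine Equiv.ext fun i => (v_inj act hne hsum ?_).1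
      exact h3 i
    rw [← h4] at h1
    rw [mul_inv_eq_iff_eq_mul] at h1
    exact h1.symm
  have h1 := centralizer_eq hM (by norm_num) hcen
  rcases ad_eq_one_iff.1 h1 with h2 | h2
  · exact V_eq_one_iff.1 h2
  · exfalso
    have h3 := hv 0
    rw [h2, LinearMap.neg_apply] at h3
    have h4 : (2 : F) • v 0 = 0 := by
      have h5 : - v 0 = v 0 := h3
      rw [two_smul]
      nth_rewrite 1 [← h5]
      exact neg_add_cancel (v 0)
    exact hne ((smul_eq_zero_iff_right two_ne).1 h4)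

include hS

/-- **not all `D(v i, v j)` vanish** -/
theorem contra (hr : ∀ i j, dd (v i) (v j) = 0) : False := by
  set W : Submodule F (D1 → F) := Submodule.span F (Set.range v) with hW
  have hmem : ∀ i, v i ∈ W := fun i => Submodule.subset_span ⟨i, rfl⟩
  have hW0 : W ≠ ⊥ := fun h => hne (by
    have := hmem 0
    rw [h] at this
    exact (Submodule.mem_bot F).1 this)
  have hDD : ∀ i, ∀ w ∈ W, DD F (v i) w = 0 := by
    intro i w hw
    induction hw using Submodule.span_induction with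
    | mem x hx =>
      obtain ⟨j, rfl⟩ := hx
      exact (dd_eq_zero_iff _ _).1 (hr i j)
    | zero => exact DD_zero_right _
    | add x y _ _ hx hy => rw [DD_add_right, hx, hy, add_zero]
    | smul c x _ hx => rw [DD_smul_right, hx, smul_zero]
  have hW1 : W ≠ ⊤ := by
    intro h
    apply hne
    refine sf_nondeg' fun y => ?_
    have hy : y ∈ W := by rw [h]; trivial
    clear h
    induction hy using Submodule.span_induction with
    | mem x hx =>
      obtain ⟨j, rfl⟩ := hx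
      exact om_zero act 0 j
    | zero => exact map_zero _
    | add x y _ _ hx hy => rw [map_add, hx, hy, add_zero]
    | smul c x _ hx => rw [map_smul, hx, smul_zero]
  obtain ⟨g, c, d, hc, hd, e1, e2⟩ := Tr.pair_orth equi two_ne three_ne (x := v 0) (y := v 1)
    ((dd_eq_zero_iff _ _).1 (hr 0 0)) ((dd_eq_zero_iff _ _).1 (hr 1 1)) hne
    (fun c => v_smul act hne hsum (by decide) c) ((dd_eq_zero_iff _ _).1 (hr 0 1))
  have k1 : ∀ w ∈ W, DD F (bs F topv) (V F g w) = 0 := by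
    intro w hw
    have h1 := (Tr.DD_V equi g).2 (hDD 0 w hw)
    rw [e1, DD_smul_left] at h1
    exact (smul_eq_zero_iff_right hc).1 h1
  have k2 : ∀ w ∈ W, DD F (bs F w2) (V F g w) = 0 := by
    intro w hw
    have h1 := (Tr.DD_V equi g).2 (hDD 1 w hw)
    rw [e2, DD_smul_left] at h1
    exact (smul_eq_zero_iff_right hd).1 h1
  obtain ⟨r, hr, n, hmv, hn⟩ := exists_mv (show p2 topv c0 = 1 by rw [p2_comm]; exact p2_c0)
  -- the root element acts trivially
  have k3 : ∀ w ∈ W, NM F r *ᵥ (V F g w) = 0 := by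
    intro w hw
    funext a
    rw [Pi.zero_apply]
    by_contra h0
    obtain ⟨b, m, h3, h4⟩ := NM_mulVec_ne h0
    obtain ⟨t1, t2⟩ := Tr.top_zero two_ne three_ne (k1 w hw)
    have q1 := p2_add hr hmv topv
    have q2 := p2_add hr h3 topv
    rw [p2_self, p2_c0] at q1
    have q3 : p2 a topv = p2 b topv + 2 := by linarith only [q1, q2]
    have q4 : p2 a topv = 3 := by
      rcases p2_cases b topv with q | q | q | q
      · rcases p2_cases a topv with q' | q' | q' | q' <;> linarith only [q', q1, q2, q]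
      · linarith only [q1, q2, q]
      · exact absurd (t1 b q) h4
      · have q5 := p2_eq_neg_three.1 q
        have q6 : b = op topv := by rw [q5, op_op]
        rw [q6] at h4
        exact absurd t2 h4
    have q5 := p2_eq_three.1 q4
    have q6 : b = c0 := by
      have inv : ∀ (b : D1) (m : ℤ), mv r (nn b) = some (nn topv, m) → mv (125 - r) (nn topv) = some (nn b, m) := by
        intro b m h
        rcases mv_spec hr b with h5 | ⟨a', c', h5, -, -, h6⟩
        · rw [h5] at h; exact absurd h (by simp)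
        · rw [h5, Option.some.injEq, Prod.mk.injEq] at h
          rw [← nn_inj h.1, ← h.2]
          exact h6
      rw [q5] at h3
      have i1 := inv b m h3
      have i2 := inv c0 n hmv
      rw [i1, Option.some.injEq, Prod.mk.injEq] at i2
      exact nn_inj i2.1
    rw [q6] at h4
    exact h4 (zero_of (k2 w hw) p2_c0')
  have k4 : ∀ w ∈ W, V F (g⁻¹ * xs F r 1 * g) w = w := by
    intro w hw
    rw [V_mul, V_mul, V_xs hr, k3 w hw, smul_zero, add_zero, V_inv]
  have h5 : ad F (g⁻¹ * xs F r 1 * g) ∈ H := blue hM.coatom hS hW0 hW1 fun w hw => by rw [k4 w hw]; exact hw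
  have h6 := eq_one act hne hsum hM hL h5 fun i => k4 _ (hmem i)
  have h7 : xs F r (1 : F) = 1 := by
    have : xs F r (1 : F) = g * (g⁻¹ * xs F r 1 * g) * g⁻¹ := by group
    rw [this, h6]
    group
  have h8 := V_xs (F := F) hr 1 (bs F c0)
  rw [h7, V_one, one_smul, Tr.NM_bs hmv] at h8
  have h9 : (n : F) • bs F topv = 0 := by
    have := h8.symm
    rwa [add_eq_left] at this
  have h10 := congrFun h9 topv
  rw [Pi.smul_apply, Tr.bs_same, smul_eq_mul, mul_one] at h10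
  exact cast_ne hn h10

variable (han : ∀ z : chevE7.Idx → F, (∀ a : A8, (∀ i : Fin 8, ((a : Perm (Fin 8)) i).val < 4 ↔ i.val < 4) →
  L F (ψ a) z = z) → kap F z z = 0 → z = 0)
include han

/-- **the configuration**, with the sum as a hypothesis -/
theorem config_of : Config F ψ v := by
  refine ⟨act, hsum, fun i => (dd_eq_zero_iff _ _).1 (pure_all act hsum han i), om_zero act, ?_⟩
  intro h0
  refine contra act hne hsum hM hL hS (rr_zero act hsum han ?_)
  rw [sf_swap, neg_eq_zero, ← kap_dd_dd] at h0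
  rw [← ff_E act (i := 1) (j := 2) (k := 3) (l := 0) (by decide)]
  exact h0

end Cfsg.Agent.R2.PX.A4
end

-- part: R2/PX/A/A34c
section
/-!
# Pattern X, part A: the configuration (helper5)

`a3a4` : vectors permuted by `A_8` form a configuration.
-/

set_option autoImplicit false
set_option maxRecDepth 100000

namespace Cfsg.Agent.R2.PX.A

open Cfsg Cfsg.Lie Module Matrix Equiv Equiv.Perm
open Cfsg.Agent.H943.E7V.Block (D1 rho)
open Cfsg.Agent.H952.F4 (MaxAlt)
open Cfsg.Agent.R2.T1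

universe u

variable {F : Type u} [Field F] [CharP F 5] [Finite F] {H : Subgroup ↥(chevE7.group F)}
  {φ : ↥(alternatingGroup (Fin 8)) →* ↥(chevE7.group F)} {ψ : ↥(alternatingGroup (Fin 8)) →* Gh F}

/-- **the configuration** -/
theorem a3a4 (hM : MaxAlt H 8 φ) (hL : Lift φ ψ) (hP : PatX F ψ) (v : Fin 8 → D1 → F)
    (act : ∀ (p : ↥(alternatingGroup (Fin 8))) (i : Fin 8), V F (ψ p) (v i) = v ((p : Perm (Fin 8)) i)) (hne : v 0 ≠ 0)
    (hS : Stab (V F) H (Submodule.span F (Set.range v))) : Config F ψ v := by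
  have hsum : ∑ i, v i = 0 := by
    have h1 : ∑ i, v i ∈ Representation.invariants (MonoidHom.comp (V F) ψ) := by
      rw [Representation.mem_invariants]
      intro g
      have h2 : ∀ i, V F (ψ g) (v i) = v ((g : Perm (Fin 8)) i) := act g
      show V F (ψ g) (∑ i, v i) = _
      rw [map_sum, Finset.sum_congr rfl fun i _ => h2 i]
      exact Equiv.sum_comp (g : Perm (Fin 8)) v
    rw [no_fixed hM (by norm_num) (by norm_num) hL] at h1
    exact (Submodule.mem_bot F).1 h1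
  exact A4.config_of act hne hsum hM hL hS fun z hz h0 => aniso hP hz h0

end Cfsg.Agent.R2.PX.A
end

private theorem dce_e98f8a08f93d : _root_.True := by
  try have : _root_.True := by simp only [_root_.Cfsg.Agent.R2.PX.A4.ff.eq_1]
  try have : _root_.True := by simp only [_root_.Cfsg.Agent.R2.PX.A4.T4.eq_1]
  exact _root_.True.intro
end

-- part: R2/T1/Pat2/Pair
section
prune_inst 0x4602c44300000000000000290002004420004b010030000c9200e040681002200402640ae800200020a0c112801000811000010420000000a00040040000000008050063300a000000080800880000000000000000000000000000000000004000000000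
set_option linter.all false
open scoped Cfsg.Agent.FastGrp

/-!
# T1, PAT2 (helper26): commuting elements of order 3 of types `(20, 49)`, `(32, 67)` in characteristic 2

* `pair49`, `pair67`.
-/

set_option autoImplicit false
set_option maxRecDepth 100000

namespace Cfsg.Agent.R2.T1.Pat2

open Cfsg Cfsg.Lie Module
open Cfsg.Agent.ChevalleyStructure Cfsg.Agent.ChevalleyStructure.Elts Cfsg.Agent.ChevalleyStructure.RootVec
  Cfsg.Agent.ChevalleyStructure.RootVecTab Cfsg.Agent.ChevalleyStructure.CoxeterGeomTypes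
open Cfsg.Agent.H943.E7V.Block (D1 rho)
open Cfsg.Agent.H944.E7Two
open Cfsg.Agent.H952.F4 (ev es)
open Cfsg.Agent.R2.T1
open Cfsg.Agent.H944.E6T (ev_conj)

universe u

section
variable {K : Type u} [Field K]

theorem zpow5 {μ : Kˣ} (hμ : IsPrimitiveRoot μ 5) {ω : Kˣ} (hω : IsPrimitiveRoot ω 3) {e : ℤ} (he : -2 ≤ e ∧ e ≤ 2)
    {k : ℕ} {x : K} (h : ((μ ^ e : Kˣ) : K) * x = (μ : K) ^ k * x) :
    ((ω ^ e : Kˣ) : K) * x = (ω : K) ^ ((k + 2) % 5 + 1) * x := by
  by_cases hx : x = 0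
  · rw [hx, mul_zero, mul_zero]
  · have h1 : μ ^ e = μ ^ (k : ℤ) := Units.ext (by
      rw [mul_right_cancel₀ hx h, zpow_natCast, Units.val_pow_eq_pow_val])
    have h2 : μ ^ (e - k) = 1 := by rw [zpow_sub, h1, mul_inv_cancel]
    rw [hμ.zpow_eq_one_iff_dvd] at h2
    have h3 : ω ^ (e - (((k + 2) % 5 + 1 : ℕ) : ℤ)) = 1 := by
      rw [hω.zpow_eq_one_iff_dvd]
      push_cast
      omega
    rw [zpow_sub, mul_inv_eq_one, zpow_natCast] at h3
    rw [h3, Units.val_pow_eq_pow_val]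

variable {l : Fin chevE7.rank → ℤ} {j0 : ℕ} {d c0 χ₁ χ₂ : ℤ}

theorem shiftV (hT : TL l j0 d c0 χ₁ χ₂) (hw : ∀ k < 240, rt chevE8 k 7 = 1 → -2 ≤ c0 + d * rt chevE8 k j0 ∧
    c0 + d * rt chevE8 k j0 ≤ 2) {μ ω : Kˣ} (hμ : IsPrimitiveRoot μ 5) (hω : IsPrimitiveRoot ω 3) {k : ℕ}
    {v : D1 → K} (h : V K (Phi K (R2.T1.lam l μ)) v = (μ : K) ^ k • v) :
    V K (Phi K (R2.T1.lam l ω)) v = (ω : K) ^ ((k + 2) % 5 + 1) • v := by
  funext s
  have h1 := congrFun h s
  rw [V_Phi_apply, hT.wt_lam, Pi.smul_apply, smul_eq_mul] at h1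
  rw [V_Phi_apply, hT.wt_lam, Pi.smul_apply, smul_eq_mul]
  exact zpow5 hμ hω (hw _ (nn_lt s) (rt_nn s)) h1

theorem shiftL (hT : TL l j0 d c0 χ₁ χ₂) (hr : ∀ r < 126, -2 ≤ d * rt chevE7 r j0 ∧ d * rt chevE7 r j0 ≤ 2)
    {μ ω : Kˣ} (hμ : IsPrimitiveRoot μ 5) (hω : IsPrimitiveRoot ω 3) {k : ℕ}
    {v : chevE7.Idx → K} (h : L K (Phi K (R2.T1.lam l μ)) v = (μ : K) ^ k • v) :
    L K (Phi K (R2.T1.lam l ω)) v = (ω : K) ^ ((k + 2) % 5 + 1) • v := by
  funext s
  have h1 := congrFun h s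
  rw [L_Phi_apply, Pi.smul_apply, smul_eq_mul] at h1
  rw [L_Phi_apply, Pi.smul_apply, smul_eq_mul]
  rcases s with i | r
  · have h3 : ((μ ^ (0 : ℤ) : Kˣ) : K) * v (Sum.inl i) = (μ : K) ^ k * v (Sum.inl i) := by
      rw [zpow_zero]
      exact h1
    have h4 := zpow5 hμ hω (by norm_num) h3
    rw [zpow_zero] at h4
    exact h4
  · have h5 : ∀ a : Fin chevE7.rank → Kˣ, dL a (Sum.inr r) = ((rtv r a : Kˣ) : K) := fun _ => rfl
    rw [h5, hT.rtv_lam r.2] at h1 ⊢
    exact zpow5 hμ hω (hr _ r.2) h1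

theorem eig_pow {M : Type*} [AddCommGroup M] [Module K M] (ρ : Representation K (Gh K) M) {z : Gh K} {x : K} {v : M}
    (h : ρ z v = x • v) (j : ℕ) : ρ (z ^ j) v = x ^ j • v := by
  induction j with
  | zero => rw [pow_zero, pow_zero, map_one, one_smul]; rfl
  | succ j ih => rw [pow_succ, map_mul, Module.End.mul_apply, h, map_smul, ih, smul_smul, pow_succ']

open Classical in
theorem sumη {η : K} (hη : IsPrimitiveRoot η 15) (f : ℕ → ℕ) (m : ℕ → ℕ) (m0 : ℕ) :
    (∑ k ∈ Finset.range 15, if η ^ m k = η ^ m0 then f k else 0) =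
      ∑ k ∈ Finset.range 15, if (m k % 15 == m0 % 15) = true then f k else 0 := by
  refine Finset.sum_congr rfl fun k _ => ?_
  have h1 : η ^ m k = η ^ m0 ↔ (m k % 15 == m0 % 15) = true := by
    rw [beq_iff_eq]
    constructor
    · intro h2
      rw [pow_mod_eq hη, pow_mod_eq hη m0] at h2
      exact hη.pow_inj (Nat.mod_lt _ (by norm_num)) (Nat.mod_lt _ (by norm_num)) h2
    · intro h2
      rw [pow_mod_eq hη, pow_mod_eq hη m0, h2]
  simp only [h1]

open Classical in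
/-- the grouping property -/
def Grp {M : Type*} [AddCommGroup M] [Module K M] (ρ : Representation K (Gh K) M) (η : K) (z : Gh K) : Prop :=
  ∀ (t : Gh K) (τ : ℕ → K), (∀ k < 15, ∀ v, ρ z v = η ^ k • v → ρ t v = τ k • v) → ∀ θ : K,
    ev (ρ t) θ = ∑ k ∈ Finset.range 15, if τ k = θ then ev (ρ z) (η ^ k) else 0

open Classical in
theorem Grp.sum {M : Type*} [AddCommGroup M] [Module K M] {ρ : Representation K (Gh K) M} {η : K} {z : Gh K}
    (h : Grp ρ η z) (hη : IsPrimitiveRoot η 15) {f : ℕ → ℕ} (hf : ∀ k < 15, ev (ρ z) (η ^ k) = f k) {t : Gh K}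
    (m : ℕ → ℕ) (ht : ∀ k < 15, ∀ v, ρ z v = η ^ k • v → ρ t v = η ^ m k • v) (m0 : ℕ) :
    ev (ρ t) (η ^ m0) = ∑ k ∈ Finset.range 15, if (m k % 15 == m0 % 15) = true then f k else 0 := by
  rw [h t (fun k => η ^ m k) ht, ← sumη hη f m m0]
  refine Finset.sum_congr rfl fun k hk => ?_
  rw [hf k (Finset.mem_range.1 hk)]

/-- **the multiplicities of `b`, `A b`, `A b⁻¹`, `Λ`** -/
theorem Grp.sums {M : Type*} [AddCommGroup M] [Module K M] {ρ : Representation K (Gh K) M} {η : K} {z b A Λ : Gh K}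
    (h : Grp ρ η z) (hη : IsPrimitiveRoot η 15) {f : ℕ → ℕ} (hf : ∀ k < 15, ev (ρ z) (η ^ k) = f k)
    (hb : z ^ 10 = b) (hΛ : z ^ 6 = Λ) (hb3 : b ^ 3 = 1)
    (hs : ∀ k v, ρ Λ v = (η ^ 6) ^ k • v → ρ A v = (η ^ 10) ^ ((k + 2) % 5 + 1) • v) :
    (ev (ρ b) 1 = f 0 + (f 3 + (f 6 + (f 9 + f 12))) ∧
    ev (ρ (A * b)) 1 = f 0 + (f 4 + (f 7 + (f 8 + f 11))) ∧
    ev (ρ (A * b⁻¹)) 1 = f 0 + (f 1 + (f 2 + (f 13 + f 14)))) ∧
    ev (ρ Λ) ((η ^ 6) ^ 0) = f 0 + (f 5 + f 10) ∧ ev (ρ Λ) ((η ^ 6) ^ 1) = f 1 + (f 6 + f 11) ∧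
    ev (ρ Λ) ((η ^ 6) ^ 2) = f 2 + (f 7 + f 12) := by
  have e1 : ∀ k < 15, ∀ v, ρ z v = η ^ k • v → ρ b v = η ^ (10 * k) • v := by
    intro k _ v hv
    have h1 := eig_pow ρ hv 10
    rw [hb, ← pow_mul, mul_comm k] at h1
    exact h1
  have e2 : ∀ k < 15, ∀ v, ρ z v = η ^ k • v → ρ Λ v = η ^ (6 * k) • v := by
    intro k _ v hv
    have h1 := eig_pow ρ hv 6
    rw [hΛ, ← pow_mul, mul_comm k] at h1
    exact h1
  have e3 : ∀ k < 15, ∀ v, ρ z v = η ^ k • v → ρ A v = η ^ (10 * ((k + 2) % 5 + 1)) • v := by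
    intro k hk v hv
    have h1 := hs k v (by rw [← pow_mul]; exact e2 k hk v hv)
    rw [← pow_mul] at h1
    exact h1
  have e4 : ∀ k < 15, ∀ v, ρ z v = η ^ k • v → ρ (A * b) v = η ^ (10 * k + 10 * ((k + 2) % 5 + 1)) • v := by
    intro k hk v hv
    rw [map_mul, Module.End.mul_apply, e1 k hk v hv, map_smul, e3 k hk v hv, smul_smul, ← pow_add]
  have hbi : b⁻¹ = b ^ 2 := by
    rw [inv_eq_iff_mul_eq_one, ← pow_succ', hb3]
  have e5 : ∀ k < 15, ∀ v, ρ z v = η ^ k • v → ρ (A * b⁻¹) v = η ^ (20 * k + 10 * ((k + 2) % 5 + 1)) • v := by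
    intro k hk v hv
    rw [hbi, map_mul, Module.End.mul_apply, eig_pow ρ (e1 k hk v hv) 2, map_smul, e3 k hk v hv, smul_smul, ← pow_mul,
      ← pow_add]
    congr 2
    ring
  have s1 := h.sum hη hf _ e1 0
  have s4 := h.sum hη hf _ e4 0
  have s5 := h.sum hη hf _ e5 0
  have s20 := h.sum hη hf _ e2 0
  have s21 := h.sum hη hf _ e2 6
  have s22 := h.sum hη hf _ e2 12
  rw [pow_zero] at s1 s4 s5 s20
  simp only [Finset.sum_range_succ, Finset.sum_range_zero] at s1 s4 s5 s20 s21 s22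
  norm_num at s1 s4 s5 s20 s21 s22
  refine ⟨⟨?_, ?_, ?_⟩, ?_, ?_, ?_⟩
  · rw [s1]; ring
  · rw [map_mul, s4]; ring
  · rw [map_mul, s5]; ring
  · rw [pow_zero, s20]; ring
  · rw [pow_one, s21]; ring
  · rw [← pow_mul, s22]; ring

variable {l : Fin chevE7.rank → ℤ} {j0 : ℕ} {d c0 χ₁ χ₂ : ℤ}

/-- **the pair, over `K`** -/
theorem pairK (h2 : (2 : K) = 0) (hT : TL l j0 d c0 χ₁ χ₂) (hd : d ≠ 0)
    (hw : ∀ k < 240, rt chevE8 k 7 = 1 → -2 ≤ c0 + d * rt chevE8 k j0 ∧ c0 + d * rt chevE8 k j0 ≤ 2)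
    (hr : ∀ r < 126, -2 ≤ d * rt chevE7 r j0 ∧ d * rt chevE7 r j0 ≤ 2)
    {v0 v1 v2 l0 l1 l2 : ℕ} {P : ℕ → ℕ → ℕ → ℕ → ℕ → ℕ → Bool}
    (hchk : chkQ 15 (QP v0 v1 v2 l0 l1 l2 P) = true)
    (hev : ∀ μ : Kˣ, IsPrimitiveRoot μ 5 →
      (ev (V K (Phi K (R2.T1.lam l μ))) ((μ : K) ^ 0) = v0 ∧ ev (V K (Phi K (R2.T1.lam l μ))) ((μ : K) ^ 1) = v1 ∧
        ev (V K (Phi K (R2.T1.lam l μ))) ((μ : K) ^ 2) = v2) ∧
      ev (L K (Phi K (R2.T1.lam l μ))) ((μ : K) ^ 0) = l0 ∧ ev (L K (Phi K (R2.T1.lam l μ))) ((μ : K) ^ 1) = l1 ∧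
        ev (L K (Phi K (R2.T1.lam l μ))) ((μ : K) ^ 2) = l2)
    (hfr : ∀ z : Gh K, z ^ 15 = 1 → ∃ (g : Gh K) (c : Fin chevE7.rank → Kˣ), Phi K c = g * z * g⁻¹ ∧ c ^ 15 = 1)
    {η : Kˣ} (hη : IsPrimitiveRoot η 15) {b : Gh K} (hb3 : b ^ 3 = 1)
    (hb : b * Phi K (R2.T1.lam l (η ^ 10)) = Phi K (R2.T1.lam l (η ^ 10)) * b) :
    P (ev (V K b) 1) (ev (L K b) 1) (ev (V K (Phi K (R2.T1.lam l (η ^ 10)) * b)) 1)
      (ev (L K (Phi K (R2.T1.lam l (η ^ 10)) * b)) 1) (ev (V K (Phi K (R2.T1.lam l (η ^ 10)) * b⁻¹)) 1)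
      (ev (L K (Phi K (R2.T1.lam l (η ^ 10)) * b⁻¹)) 1) = true := by
  have hω : IsPrimitiveRoot (η ^ 10) 3 := by
    have h1 := hη.pow_of_dvd (p := 5) (by norm_num) (by norm_num)
    have h3 : IsPrimitiveRoot (η ^ 5) 3 := h1
    have h4 := h3.pow_of_coprime 2 (by norm_num)
    rw [← pow_mul] at h4
    exact h4
  have hμ : IsPrimitiveRoot (η ^ 6) 5 := by
    have h1 := hη.pow_of_dvd (p := 3) (by norm_num) (by norm_num)
    have h3 : IsPrimitiveRoot (η ^ 3) 5 := h1
    have h4 := h3.pow_of_coprime 2 (by norm_num)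
    rw [← pow_mul] at h4
    exact h4
  have hc := comm2 h2 hT hd hω hb (η ^ 6)
  set A := Phi K (R2.T1.lam l (η ^ 10)) with hA
  set Λ := Phi K (R2.T1.lam l (η ^ 6)) with hΛ
  have hΛ5 : Λ ^ 5 = 1 := by
    rw [hΛ, ← map_pow, R2.T1.lam_pow l hμ.pow_eq_one, map_one]
  have hcom : Commute b Λ := hc
  have hz15 : (b * Λ) ^ 15 = 1 := by
    rw [hcom.mul_pow]
    have e1 : b ^ 15 = (b ^ 3) ^ 5 := by rw [← pow_mul]
    have e2 : Λ ^ 15 = (Λ ^ 5) ^ 3 := by rw [← pow_mul]
    rw [e1, e2, hb3, hΛ5, one_pow, one_pow, mul_one]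
  have hz10 : (b * Λ) ^ 10 = b := by
    rw [hcom.mul_pow]
    have e1 : b ^ 10 = (b ^ 3) ^ 3 * b := by rw [← pow_mul, ← pow_succ]
    have e2 : Λ ^ 10 = (Λ ^ 5) ^ 2 := by rw [← pow_mul]
    rw [e1, e2, hb3, hΛ5, one_pow, one_pow, mul_one, one_mul]
  have hz6 : (b * Λ) ^ 6 = Λ := by
    rw [hcom.mul_pow]
    have e1 : b ^ 6 = (b ^ 3) ^ 2 := by rw [← pow_mul]
    have e2 : Λ ^ 6 = Λ ^ 5 * Λ := by rw [← pow_succ]
    rw [e1, e2, hb3, hΛ5, one_pow, one_mul, one_mul]
  have hfz := hfr _ hz15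
  have hηK : IsPrimitiveRoot (η : K) 15 := IsPrimitiveRoot.coe_units_iff.2 hη
  obtain ⟨f, g, hQ, hfg⟩ := exists_patQ hchk (by norm_num) hη hfz
  have hf : ∀ k < 15, ev (V K (b * Λ)) ((η : K) ^ k) = f k := fun k hk => (hfg k hk).1
  have hg : ∀ k < 15, ev (L K (b * Λ)) ((η : K) ^ k) = g k := fun k hk => (hfg k hk).2
  have e10 : ((η ^ 10 : Kˣ) : K) = (η : K) ^ 10 := Units.val_pow_eq_pow_val _ _
  have e6 : ((η ^ 6 : Kˣ) : K) = (η : K) ^ 6 := Units.val_pow_eq_pow_val _ _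
  have gV : Grp (V K) (η : K) (b * Λ) := fun t τ h θ => by
    convert ev_grp_V (by norm_num) hηK hfz τ h θ
  have gL : Grp (L K) (η : K) (b * Λ) := fun t τ h θ => by
    convert ev_grp_L (by norm_num) hηK hfz τ h θ
  obtain ⟨⟨a1, a2, a3⟩, a4, a5, a6⟩ := gV.sums (A := A) hηK hf hz10 hz6 hb3 (fun k v hv => by
    have := shiftV hT hw hμ hω (k := k) (v := v) (by rw [e6]; exact hv)
    rw [e10] at this
    exact this)
  obtain ⟨⟨b1, b2, b3⟩, b4, b5, b6⟩ := gL.sums (A := A) hηK hg hz10 hz6 hb3 (fun k v hv => by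
    have := shiftL hT hr hμ hω (k := k) (v := v) (by rw [e6]; exact hv)
    rw [e10] at this
    exact this)
  obtain ⟨⟨c1, c2, c3⟩, c4, c5, c6⟩ := hev _ hμ
  rw [e6] at c1 c2 c3 c4 c5 c6
  rw [c1] at a4
  rw [c2] at a5
  rw [c3] at a6
  rw [c4] at b4
  rw [c5] at b5
  rw [c6] at b6
  unfold QP at hQ
  rw [← a4, ← a5, ← a6, ← b4, ← b5, ← b6, ← a1, ← a2, ← a3, ← b1, ← b2, ← b3] at hQ
  simpa using hQ

/-- the multiplicities of `λ(μ)` -/
theorem lam_ev (hT : TL l j0 d c0 χ₁ χ₂) {y : List ℕ} (hy : y.length = 7) {t : ℕ}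
    (h1 : ∀ j < 7, (5 : ℤ) ∣ (if j = j0 then d else 0) - (y.getD j 0 : ℕ)) (h2 : (5 : ℤ) ∣ c0 - (t : ℕ))
    {μ : Kˣ} (hμ : IsPrimitiveRoot μ 5) {k : ℕ} (hk : k < 5) :
    ev (V K (Phi K (R2.T1.lam l μ))) ((μ : K) ^ k) = cV 5 y t k ∧
      ev (L K (Phi K (R2.T1.lam l μ))) ((μ : K) ^ k) = cL 5 y k := by
  have key : ∀ (a : ℤ) (b : ℕ), (5 : ℤ) ∣ a - (b : ℕ) → μ ^ a = μ ^ b := by
    intro a b h
    have h3 : μ ^ (a - (b : ℕ)) = 1 := (hμ.zpow_eq_one_iff_dvd _).2 (by exact_mod_cast h)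
    rw [zpow_sub, mul_inv_eq_one, zpow_natCast] at h3
    exact h3
  have hs : ∀ j < 7, rtv (chevE7.simple j) (R2.T1.lam l μ) = μ ^ y.getD j 0 := by
    intro j hj
    rw [R2.T1.rtv_lam, hT.simple j hj]
    exact key _ _ (h1 j hj)
  have ht : wt botv (R2.T1.lam l μ) = μ ^ t := by
    rw [R2.T1.wt_lam]
    have h3 : chW l (nn botv) = c0 := hT.bot
    rw [h3]
    exact key _ _ h2
  exact ⟨ev_V_core hy hs hμ ht hk, ev_L_core hy hs hμ hk⟩

end

section
variable {F : Type u} [Field F] [Finite F]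

theorem charP_two (h2 : (2 : F) = 0) : CharP F 2 := by
  obtain ⟨p, hp⟩ := CharP.exists F
  have hpp : p.Prime := CharP.char_is_prime F p
  have h1 : p ∣ 2 := (CharP.cast_eq_zero_iff F p 2).1 (by exact_mod_cast h2)
  rw [(Nat.prime_dvd_prime_iff_eq hpp Nat.prime_two).1 h1] at hp
  exact hp

variable {l : Fin chevE7.rank → ℤ} {j0 : ℕ} {d c0 χ₁ χ₂ : ℤ}

/-- **the pair, over `F`** -/
theorem pairF (h2 : (2 : F) = 0) (hT : TL l j0 d c0 χ₁ χ₂) (hd : d ≠ 0)
    (hw : ∀ k < 240, rt chevE8 k 7 = 1 → -2 ≤ c0 + d * rt chevE8 k j0 ∧ c0 + d * rt chevE8 k j0 ≤ 2)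
    (hr : ∀ r < 126, -2 ≤ d * rt chevE7 r j0 ∧ d * rt chevE7 r j0 ≤ 2)
    {v0 v1 v2 l0 l1 l2 : ℕ} {P : ℕ → ℕ → ℕ → ℕ → ℕ → ℕ → Bool}
    (hchk : chkQ 15 (QP v0 v1 v2 l0 l1 l2 P) = true) {y : List ℕ} (hy : y.length = 7) {t : ℕ}
    (h1 : ∀ j < 7, (5 : ℤ) ∣ (if j = j0 then d else 0) - (y.getD j 0 : ℕ)) (h2' : (5 : ℤ) ∣ c0 - (t : ℕ))
    (hc : (cV 5 y t 0 = v0 ∧ cV 5 y t 1 = v1 ∧ cV 5 y t 2 = v2) ∧ cL 5 y 0 = l0 ∧ cL 5 y 1 = l1 ∧ cL 5 y 2 = l2)
    {a b : Gh F} (hex : ∀ ζ : (AlgebraicClosure F)ˣ, IsPrimitiveRoot ζ 3 →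
      ∃ g, Phi (AlgebraicClosure F) (R2.T1.lam l ζ) = g * emb (algebraMap F (AlgebraicClosure F)) a * g⁻¹)
    (hb3 : b ^ 3 = 1) (hab : a * b = b * a) :
    P (ev (V F b) 1) (ev (L F b) 1) (ev (V F (a * b)) 1) (ev (L F (a * b)) 1) (ev (V F (a * b⁻¹)) 1)
      (ev (L F (a * b⁻¹)) 1) = true := by
  have : CharP F 2 := charP_two h2
  have hp2 : Fact (Nat.Prime 2) := ⟨Nat.prime_two⟩
  have : CharP (AlgebraicClosure F) 2 :=
    charP_of_injective_algebraMap (algebraMap F (AlgebraicClosure F)).injective 2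
  have h2K : (2 : AlgebraicClosure F) = 0 := CharTwo.two_eq_zero
  have h15 : ((15 : ℕ) : AlgebraicClosure F) ≠ 0 := by
    have : ((15 : ℕ) : AlgebraicClosure F) = 2 * 7 + 1 := by norm_num
    rw [this, h2K, zero_mul, zero_add]
    exact one_ne_zero
  have : NeZero ((15 : ℕ) : AlgebraicClosure F) := ⟨h15⟩
  have : NeZero 15 := ⟨by norm_num⟩
  obtain ⟨η', hη'⟩ : ∃ η : AlgebraicClosure F, IsPrimitiveRoot η 15 :=
    HasEnoughRootsOfUnity.exists_primitiveRoot (AlgebraicClosure F) 15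
  have hη0 : η' ≠ 0 := hη'.ne_zero (by norm_num)
  have hη : IsPrimitiveRoot (Units.mk0 η' hη0) 15 := IsPrimitiveRoot.coe_units_iff.1 hη'
  set η := Units.mk0 η' hη0 with hηdef
  have hω : IsPrimitiveRoot (η ^ 10) 3 := by
    have h1 := hη.pow_of_dvd (p := 5) (by norm_num) (by norm_num)
    have h3 : IsPrimitiveRoot (η ^ 5) 3 := h1
    have h4 := h3.pow_of_coprime 2 (by norm_num)
    rw [← pow_mul] at h4
    exact h4
  obtain ⟨g, hg⟩ := hex _ hω
  set f := algebraMap F (AlgebraicClosure F) with hf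
  have hcom : emb f a * emb f b = emb f b * emb f a := by rw [← map_mul, hab, map_mul]
  have h5 := pairK h2K hT hd hw hr hchk (fun μ hμ => by
    obtain ⟨⟨c1, c2, c3⟩, c4, c5, c6⟩ := hc
    have d0 := lam_ev hT hy h1 h2' hμ (k := 0) (by norm_num)
    have d1 := lam_ev hT hy h1 h2' hμ (k := 1) (by norm_num)
    have d2 := lam_ev hT hy h1 h2' hμ (k := 2) (by norm_num)
    exact ⟨⟨by rw [d0.1, c1], by rw [d1.1, c2], by rw [d2.1, c3]⟩, by rw [d0.2, c4], by rw [d1.2, c5],
      by rw [d2.2, c6]⟩)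
    (fun z hz => frameK 2 (Cfsg.Agent.H944.RootVals.hAlg_closure 2 F) (by norm_num) (by norm_num) hz) hη
    (b := g * emb f b * g⁻¹) (by rw [conj_pow, ← map_pow, hb3, map_one, mul_one, mul_inv_cancel]) (by
      rw [hg]
      have e1 : g * emb f b * g⁻¹ * (g * emb f a * g⁻¹) = g * (emb f b * emb f a) * g⁻¹ := by group
      have e2 : g * emb f a * g⁻¹ * (g * emb f b * g⁻¹) = g * (emb f a * emb f b) * g⁻¹ := by group
      rw [e1, e2, hcom])
  have e1 : Phi (AlgebraicClosure F) (R2.T1.lam l (η ^ 10)) * (g * emb f b * g⁻¹) = g * emb f (a * b) * g⁻¹ := by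
    rw [hg, map_mul]; group
  have e2 : Phi (AlgebraicClosure F) (R2.T1.lam l (η ^ 10)) * (g * emb f b * g⁻¹)⁻¹ =
      g * emb f (a * b⁻¹) * g⁻¹ := by
    rw [hg, map_mul, map_inv]; group
  rw [e1, e2, ev_conj, ev_conj, ev_conj, ev_conj, ev_conj, ev_conj, ev_V_one, ev_V_one, ev_V_one, ev_L_one, ev_L_one,
    ev_L_one] at h5
  exact h5

theorem wb6 : ∀ k < 240, rt chevE8 k 7 = 1 → -2 ≤ -2 + 1 * rt chevE8 k 5 ∧ -2 + 1 * rt chevE8 k 5 ≤ 2 := by
  decide +kernel
theorem rb6 : ∀ r < 126, -2 ≤ 1 * rt chevE7 r 5 ∧ 1 * rt chevE7 r 5 ≤ 2 := by decide +kernel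
theorem wb1 : ∀ k < 240, rt chevE8 k 7 = 1 → -2 ≤ -1 + 1 * rt chevE8 k 0 ∧ -1 + 1 * rt chevE8 k 0 ≤ 2 := by
  decide +kernel
theorem rb1 : ∀ r < 126, -2 ≤ 1 * rt chevE7 r 0 ∧ 1 * rt chevE7 r 0 ≤ 2 := by decide +kernel

omit [Finite F] in
theorem three_ne (h2 : (2 : F) = 0) : (3 : F) ≠ 0 := by
  have h3 : (3 : F) = 2 + 1 := by norm_num
  rw [h3, h2, zero_add]
  exact one_ne_zero

/-- **pairs of type `(20, 49)`** -/
theorem pair49 (h2 : (2 : F) = 0) {a b : Gh F} (ha3 : a ^ 3 = 1) (hb3 : b ^ 3 = 1) (hab : a * b = b * a)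
    (va : ev (V F a) 1 = 20) (la : ev (L F a) 1 = 49) (vb : ev (V F b) 1 = 20) (lb : ev (L F b) 1 = 49)
    (hv : ev (V F (a * b)) 1 = ev (V F (a * b⁻¹)) 1) (hl : ev (L F (a * b)) 1 = ev (L F (a * b⁻¹)) 1) :
    ev (V F (a * b)) 1 = 14 ∨ ev (L F (a * b)) 1 = 67 := by
  have h5 := pairF h2 TL6 (by norm_num) wb6 rb6 chk49 (y := [0, 0, 0, 0, 0, 1, 0]) rfl (t := 3) (by decide)
    (by decide) (by decide +kernel) (exists_lam_F (three_ne h2) ha3 TL6 nf49 (fun Y hY => by
      simp only [List.mem_cons, List.not_mem_nil, or_false] at hY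
      rcases hY with rfl | rfl
      · exact ⟨[], by decide +kernel⟩
      · exact ⟨[6, 5, 4, 3, 1, 2, 0, 3, 2, 4, 3, 1, 5, 4, 3, 2, 0, 6, 5, 4, 3, 1, 2, 3, 4, 5], by decide +kernel⟩)
      va la) hb3 hab
  rw [vb, lb, ← hv, ← hl] at h5
  unfold P49 at h5
  simpa using h5

/-- **pairs of type `(32, 67)`** -/
theorem pair67 (h2 : (2 : F) = 0) {a b : Gh F} (ha3 : a ^ 3 = 1) (hb3 : b ^ 3 = 1) (hab : a * b = b * a)
    (va : ev (V F a) 1 = 32) (la : ev (L F a) 1 = 67) (vb : ev (V F b) 1 = 32) (lb : ev (L F b) 1 = 67)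
    (hv : ev (V F (a * b)) 1 = ev (V F (a * b⁻¹)) 1) (hl : ev (L F (a * b)) 1 = ev (L F (a * b⁻¹)) 1) :
    ev (V F (a * b)) 1 = 20 ∧ ev (L F (a * b)) 1 = 49 := by
  have h5 := pairF h2 TL1 (by norm_num) wb1 rb1 chk67 (y := [1, 0, 0, 0, 0, 0, 0]) rfl (t := 4) (by decide)
    (by decide) (by decide +kernel) (exists_lam_F (three_ne h2) ha3 TL1 nf32 (fun Y hY => by
      simp only [List.mem_cons, List.not_mem_nil, or_false] at hY
      rcases hY with rfl | rfl
      · exact ⟨[6, 5, 4, 3, 1, 2, 0, 3, 2, 4, 3, 1, 5, 4, 3, 2, 0], by decide +kernel⟩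
      · exact ⟨[], by decide +kernel⟩)
      va la) hb3 hab
  rw [vb, lb, ← hv, ← hl] at h5
  unfold P67 at h5
  simpa using h5

end

end Cfsg.Agent.R2.T1.Pat2
end

-- part: R2/T1/Pat2/El2
section
set_option linter.all false
open scoped Cfsg.Agent.FastGrp

/-!
# T1, PAT2 (helper26): elements of order 5, 7, 15 conjugate to their squares

* `five_ratL`, `seven_rat`, `fifteen_rat`; `three_pat`.
-/

set_option autoImplicit false
set_option maxRecDepth 100000

namespace Cfsg.Agent.R2.T1.Pat2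

open Cfsg Cfsg.Lie Module
open Cfsg.Agent.H943.E7V.Block (D1 rho)
open Cfsg.Agent.H952.F4 (ev es)
open Cfsg.Agent.R2.T1.Odd

universe u

section
variable {F : Type u} [Field F] [Finite F]

theorem five_ratL (h5 : (5 : F) ≠ 0) {x g : Gh F} (hx : x ^ 5 = 1) (hx1 : x ≠ 1) (hg : g * x * g⁻¹ = x ^ 2) :
    ev (V F x) 1 = 16 ∧ ev (L F x) 1 = 33 := by
  have h5' : ((5 : ℕ) : F) ≠ 0 := by exact_mod_cast h5
  obtain ⟨p, hpp, hp, hcop⟩ := exists_char h5'
  obtain ⟨ζ, hζ, P, hP, h1⟩ := pat chk5 (by norm_num) p hcop hx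
  have e1 := ev_rat (V (AlgebraicClosure F)) (N := 5) (a := 2) (b := 3) (emb_pow_one (algebraMap F _) hx) hζ.pow_eq_one
    (by norm_num) (by norm_num) (emb_rat _ hg) 1
  have h2 := (h1 1 (by norm_num)).1
  have h3 := (h1 3 (by norm_num)).1
  have h0 := (h1 0 (by norm_num)).1
  have h0' := (h1 0 (by norm_num)).2
  rw [pow_zero, ev_V_one] at h0
  rw [pow_zero, ev_L_one] at h0'
  rw [h2, one_mul, h3] at e1
  have key : ∀ P ∈ T5, P.1.getD 0 0 = 56 ∨ (P.1.getD 0 0 = 16 ∧ P.2.getD 0 0 = 33) ∨ P.1.getD 1 0 ≠ P.1.getD 3 0 := by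
    decide
  rcases key P hP with h | h | h
  · exact absurd (eq_one_of_ev (h0.trans h)) hx1
  · rw [h0, h0', h.1, h.2]
    exact ⟨rfl, rfl⟩
  · exact absurd e1 h

/-- **elements of order 7 conjugate to their squares** -/
theorem seven_rat (h7 : (7 : F) ≠ 0) {x g : Gh F} (hx : x ^ 7 = 1) (hx1 : x ≠ 1) (hg : g * x * g⁻¹ = x ^ 2) :
    ev (V F x) 1 = 2 ∨ ev (V F x) 1 = 8 ∨ ev (V F x) 1 = 20 := by
  have h7' : ((7 : ℕ) : F) ≠ 0 := by exact_mod_cast h7
  obtain ⟨p, hpp, hp, hcop⟩ := exists_char h7'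
  obtain ⟨ζ, hζ, P, hP, h1⟩ := pat chk7 (by norm_num) p hcop hx
  have hm : ∀ j, ζ ^ j = ζ ^ (j % 7) := fun j => pow_mod_eq hζ j
  have eV := fun k => ev_rat (V (AlgebraicClosure F)) (N := 7) (a := 2) (b := 4) (emb_pow_one (algebraMap F _) hx)
    hζ.pow_eq_one (by norm_num) (by norm_num) (emb_rat _ hg) k
  have e1 := eV 1
  have e2 := eV 4
  have e3 := eV 3
  rw [one_mul, (h1 1 (by norm_num)).1, (h1 4 (by norm_num)).1] at e1
  rw [hm (4 * 4), (h1 4 (by norm_num)).1, (h1 2 (by norm_num)).1] at e2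
  rw [hm (3 * 4), (h1 3 (by norm_num)).1, (h1 5 (by norm_num)).1] at e3
  have h0 := (h1 0 (by norm_num)).1
  rw [pow_zero, ev_V_one] at h0
  have key : ∀ P ∈ T7, P.1.getD 1 0 = P.1.getD 4 0 → P.1.getD 4 0 = P.1.getD 2 0 → P.1.getD 3 0 = P.1.getD 5 0 →
      P.1.getD 0 0 = 56 ∨ P.1.getD 0 0 = 2 ∨ P.1.getD 0 0 = 8 ∨ P.1.getD 0 0 = 20 := by decide
  rw [h0]
  rcases key P hP e1 e2 e3 with h | h
  · exact absurd (eq_one_of_ev (h0.trans h)) hx1
  · exact h

theorem natCast_ne_zero_of_odd (h2 : (2 : F) = 0) {N : ℕ} (hN : N % 2 = 1) : ((N : ℕ) : F) ≠ 0 := by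
  have h1 : N = 2 * (N / 2) + 1 := by omega
  rw [h1]
  push_cast
  rw [h2, zero_mul, zero_add]
  exact one_ne_zero

/-- **elements of order 15 conjugate to their squares** -/
theorem fifteen_rat (h2 : (2 : F) = 0) {x g : Gh F} (hx : x ^ 15 = 1) (hg : g * x * g⁻¹ = x ^ 2)
    (hv : ev (V F (x ^ 3)) 1 = 16) (hl : ev (L F (x ^ 3)) 1 = 33) :
    (ev (V F (x ^ 5)) 1 = 32 → ev (V F x) 1 = 0 ∨ ev (V F x) 1 = 8) ∧
    (ev (V F (x ^ 5)) 1 = 20 → ev (V F x) 1 = 4 ∨ ev (V F x) 1 = 12) ∧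
    (ev (L F (x ^ 5)) 1 = 43 → ev (L F x) 1 = 15) := by
  classical
  have : CharP F 2 := charP_two h2
  have hp2 : Fact (Nat.Prime 2) := ⟨Nat.prime_two⟩
  obtain ⟨ζ, hζ, f, g', hQ, h1⟩ := patQ chkR (by norm_num) 2 (by norm_num) hx
  have hfr := frame (F := F) (x := x) 2 (N := 15) (by norm_num) (by norm_num) hx
  have hi : ∃ i : F →+* AlgebraicClosure F, i = algebraMap F (AlgebraicClosure F) := ⟨_, rfl⟩
  obtain ⟨i, hi⟩ := hi
  rw [← hi] at h1 hfr
  have hm : ∀ j, ζ ^ j = ζ ^ (j % 15) := fun j => pow_mod_eq hζ j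
  have eV := fun k => ev_rat (V (AlgebraicClosure F)) (N := 15) (a := 2) (b := 8) (emb_pow_one i hx)
    hζ.pow_eq_one (by norm_num) (by norm_num) (emb_rat _ hg) k
  have eL := fun k => ev_rat (L (AlgebraicClosure F)) (N := 15) (a := 2) (b := 8) (emb_pow_one i hx)
    hζ.pow_eq_one (by norm_num) (by norm_num) (emb_rat _ hg) k
  have hV : ∀ k < 15, ev (V (AlgebraicClosure F) (emb i x)) (ζ ^ k) = f k := fun k hk => (h1 k hk).1
  have hL : ∀ k < 15, ev (L (AlgebraicClosure F) (emb i x)) (ζ ^ k) = g' k := fun k hk => (h1 k hk).2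
  have rV : ∀ a b, a < 15 → b < 15 → a * 8 % 15 = b → f a = f b := by
    intro a b ha hb hab
    have h3 := eV a
    rw [hm (a * 8), hab, hV a ha, hV b hb] at h3
    exact h3
  have rL : ∀ a b, a < 15 → b < 15 → a * 8 % 15 = b → g' a = g' b := by
    intro a b ha hb hab
    have h3 := eL a
    rw [hm (a * 8), hab, hL a ha, hL b hb] at h3
    exact h3
  have grp : Grp (V (AlgebraicClosure F)) ζ (emb i x) := fun t τ h θ => by
    convert ev_grp_V (by norm_num) hζ hfr τ h θ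
  have grpL : Grp (L (AlgebraicClosure F)) ζ (emb i x) := fun t τ h θ => by
    convert ev_grp_L (by norm_num) hζ hfr τ h θ
  have pV : ∀ j : ℕ, ev (V F (x ^ j)) 1 = ∑ k ∈ Finset.range 15, if (j * k % 15 == 0 % 15) = true then f k else 0 := by
    intro j
    rw [← ev_V_one i, map_pow, ← pow_zero ζ]
    refine grp.sum hζ hV (fun k => j * k) (fun k _ v hv => ?_) 0
    rw [eig_pow _ hv j, ← pow_mul, mul_comm]
  have pL : ∀ j : ℕ, ev (L F (x ^ j)) 1 = ∑ k ∈ Finset.range 15, if (j * k % 15 == 0 % 15) = true then g' k else 0 := by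
    intro j
    rw [← ev_L_one i, map_pow, ← pow_zero ζ]
    refine grpL.sum hζ hL (fun k => j * k) (fun k _ v hv => ?_) 0
    rw [eig_pow _ hv j, ← pow_mul, mul_comm]
  have q3 := pV 3
  have q5 := pV 5
  have q3' := pL 3
  have q5' := pL 5
  simp only [Finset.sum_range_succ, Finset.sum_range_zero] at q3 q5 q3' q5'
  norm_num at q3 q5 q3' q5'
  rw [← map_pow] at q3 q5 q3' q5'
  have h0 := hV 0 (by norm_num)
  have h0' := hL 0 (by norm_num)
  rw [pow_zero, ev_V_one] at h0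
  rw [pow_zero, ev_L_one] at h0'
  have a1 := rV 1 8 (by norm_num) (by norm_num) (by norm_num)
  have a2 := rV 8 4 (by norm_num) (by norm_num) (by norm_num)
  have a3 := rV 4 2 (by norm_num) (by norm_num) (by norm_num)
  have a4 := rV 3 9 (by norm_num) (by norm_num) (by norm_num)
  have a5 := rV 9 12 (by norm_num) (by norm_num) (by norm_num)
  have a6 := rV 12 6 (by norm_num) (by norm_num) (by norm_num)
  have a7 := rV 5 10 (by norm_num) (by norm_num) (by norm_num)
  have b1 := rL 1 8 (by norm_num) (by norm_num) (by norm_num)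
  have b2 := rL 8 4 (by norm_num) (by norm_num) (by norm_num)
  have b3 := rL 4 2 (by norm_num) (by norm_num) (by norm_num)
  have b4 := rL 3 9 (by norm_num) (by norm_num) (by norm_num)
  have b5 := rL 9 12 (by norm_num) (by norm_num) (by norm_num)
  have b6 := rL 12 6 (by norm_num) (by norm_num) (by norm_num)
  have b7 := rL 5 10 (by norm_num) (by norm_num) (by norm_num)
  rw [hv] at q3
  rw [hl] at q3'
  have c1 : f 1 = f 2 := by omega
  have c2 : f 2 = f 4 := by omega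
  have c3 : f 3 = f 6 := by omega
  have c4 : f 0 + (f 5 + f 10) = 16 := by omega
  have c5 : g' 1 = g' 2 := by omega
  have c6 : g' 2 = g' 4 := by omega
  have c7 : g' 3 = g' 6 := by omega
  have c8 : g' 0 + (g' 5 + g' 10) = 33 := by omega
  have c9 : f 0 + (f 3 + (f 6 + (f 9 + f 12))) = ev (V F (x ^ 5)) 1 := by rw [q5]; ring
  have c10 : g' 0 + (g' 3 + (g' 6 + (g' 9 + g' 12))) = ev (L F (x ^ 5)) 1 := by rw [q5']; ring
  unfold QR at hQ
  rw [c4, c8, c9, c10, c1, c2, c3, a7, c5, c6, c7, b7] at hQ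
  simp only [Nat.beq_refl, Bool.not_true, Bool.false_or, Bool.and_eq_true, Bool.or_eq_true, Bool.not_eq_true'] at hQ
  obtain ⟨d1, d2, d3⟩ := hQ
  rw [h0, h0']
  refine ⟨fun h => ?_, fun h => ?_, fun h => ?_⟩
  · rw [h] at d1
    simpa using d1
  · rw [h] at d2
    simpa using d2
  · rw [h] at d3
    simpa using d3

/-- the types of the elements of order 3 -/
theorem three_pat (h2 : (2 : F) = 0) {x : Gh F} (hx : x ^ 3 = 1) (hx1 : x ≠ 1) (h16 : 16 ≤ ev (V F x) 1) :
    (ev (V F x) 1 = 32 ∧ ev (L F x) 1 = 67) ∨ (ev (V F x) 1 = 20 ∧ ev (L F x) 1 = 49) ∨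
      (ev (V F x) 1 = 20 ∧ ev (L F x) 1 = 43) := by
  have h3 := natCast_ne_zero_of_odd (F := F) h2 (N := 3) rfl
  obtain ⟨P, hP, e1, e2⟩ := patF chk3 h3 hx
  have key : ∀ P ∈ T3, P.1.getD 0 0 = 56 ∨ P.1.getD 0 0 < 16 ∨ (P.1.getD 0 0 = 32 ∧ P.2.getD 0 0 = 67) ∨
      (P.1.getD 0 0 = 20 ∧ P.2.getD 0 0 = 49) ∨ (P.1.getD 0 0 = 20 ∧ P.2.getD 0 0 = 43) := by decide
  rw [e1] at h16 ⊢
  rw [e2]
  rcases key P hP with h | h | h
  · exact absurd (eq_one_of_ev (e1.trans h)) hx1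
  · omega
  · exact h

end

end Cfsg.Agent.R2.T1.Pat2
end
end
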